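import Mathlib

/-!
# Modules of a Frobenius group without fixed points of the kernel

Elementary identities: with `L` normalised by `H`, acted on fixed-point-freely, and without fixed
points on `M`, the sum of the `L`-translates of the trace of `H` is multiplication by `|L|`.
Consequences: generation by fixed points of `H`, vanishing of cocycles of `H`, and the weight
argument for an abelian group permuted by `L` and `H`.
-/

set_option autoImplicit false

open Finset

namespace CfsgLib.FrobKernelFixed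

set_option linter.unusedSectionVars false
set_option linter.style.haveILetI false

variable {A M : Type*} [Group A] [Finite A] [AddCommGroup M] (ρ : A →* AddMonoid.End M)

/-- The sum of the translates by a subgroup. -/
noncomputable def trace (H : Subgroup A) (m : M) : M :=
  letI := Fintype.ofFinite H
  ∑ h : H, ρ (h : A) m

theorem trace_def (H : Subgroup A) [Fintype H] (m : M) : trace ρ H m = ∑ h : H, ρ (h : A) m := by
  simp only [trace]
  exact Finset.sum_congr (by ext; simp) fun _ _ => rfl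

theorem rho_mul (a b : A) (m : M) : ρ (a * b) m = ρ a (ρ b m) := by
  rw [map_mul]; rfl

theorem rho_one (m : M) : ρ 1 m = m := by
  rw [map_one]; rfl

theorem rho_inv_self (a : A) (m : M) : ρ a⁻¹ (ρ a m) = m := by
  rw [← rho_mul, inv_mul_cancel, rho_one]

theorem rho_self_inv (a : A) (m : M) : ρ a (ρ a⁻¹ m) = m := by
  rw [← rho_mul, mul_inv_cancel, rho_one]

/-- The trace is fixed by the subgroup. -/
theorem rho_trace {H : Subgroup A} {a : A} (ha : a ∈ H) (m : M) :
    ρ a (trace ρ H m) = trace ρ H m := by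
  letI := Fintype.ofFinite H
  rw [trace_def, map_sum]
  exact Fintype.sum_equiv (Equiv.mulLeft (⟨a, ha⟩ : H)) _ _ fun x => (rho_mul ρ a x m).symm

theorem trace_rho {H : Subgroup A} {a : A} (ha : a ∈ H) (m : M) :
    trace ρ H (ρ a m) = trace ρ H m := by
  letI := Fintype.ofFinite H
  rw [trace_def, trace_def]
  exact Fintype.sum_equiv (Equiv.mulRight (⟨a, ha⟩ : H)) _ _ fun x => (rho_mul ρ x a m).symm

theorem trace_eq_zero {L : Subgroup A} (hfix : ∀ m, (∀ f ∈ L, ρ f m = m) → m = 0) (m : M) :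
    trace ρ L m = 0 :=
  hfix _ fun _ hf => rho_trace ρ hf m

theorem trace_of_fixed {H : Subgroup A} {m : M} (hm : ∀ h ∈ H, ρ h m = m) :
    trace ρ H m = Nat.card H • m := by
  letI := Fintype.ofFinite H
  rw [trace_def, Finset.sum_congr rfl fun (x : H) _ => hm x x.2, Finset.sum_const,
    Finset.card_univ, Nat.card_eq_fintype_card]

/-- The translates of the trace of `H` by `L` add up to multiplication by `|L|`. -/
theorem sum_translates_trace (L H : Subgroup A) [Fintype L]
    (hnorm : ∀ h ∈ H, ∀ f ∈ L, h * f * h⁻¹ ∈ L)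
    (hfpf : ∀ h ∈ H, h ≠ 1 → ∀ f ∈ L, h * f = f * h → f = 1)
    (hfix : ∀ m, (∀ f ∈ L, ρ f m = m) → m = 0) (m : M) :
    ∑ f : L, ρ (f : A) (trace ρ H (ρ (f : A)⁻¹ m)) = Nat.card L • m := by
  classical
  letI := Fintype.ofFinite H
  have h1 : ∀ f : L, ρ (f : A) (trace ρ H (ρ (f : A)⁻¹ m))
      = ∑ h : H, ρ ((f : A) * h * (f : A)⁻¹) m := fun f => by
    rw [trace_def, map_sum]
    exact Finset.sum_congr rfl fun h _ => by rw [← rho_mul, ← rho_mul, mul_assoc]
  rw [Finset.sum_congr rfl fun f _ => h1 f, Finset.sum_comm,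
    Finset.sum_eq_single (1 : H)]
  · simp [Nat.card_eq_fintype_card]
  · intro h _ hh
    let e : L → L := fun f => ⟨(f : A) * ((h : A) * (f : A)⁻¹ * (h : A)⁻¹),
      L.mul_mem f.2 (hnorm h h.2 _ (L.inv_mem f.2))⟩
    have he : Function.Bijective e := by
      refine Finite.injective_iff_bijective.1 fun x y hxy => ?_
      have hxy' : (x : A) * ((h : A) * (x : A)⁻¹ * (h : A)⁻¹)
          = (y : A) * ((h : A) * (y : A)⁻¹ * (h : A)⁻¹) := congrArg Subtype.val hxy
      have hc : (h : A) * ((y : A)⁻¹ * x) = ((y : A)⁻¹ * x) * h := by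
        calc (h : A) * ((y : A)⁻¹ * x)
            = (y : A)⁻¹ * ((y : A) * ((h : A) * (y : A)⁻¹ * (h : A)⁻¹)) * h * x := by group
          _ = (y : A)⁻¹ * ((x : A) * ((h : A) * (x : A)⁻¹ * (h : A)⁻¹)) * h * x := by rw [hxy']
          _ = ((y : A)⁻¹ * x) * h := by group
      have := hfpf h h.2 (fun e' => hh (Subtype.ext e')) _ (L.mul_mem (L.inv_mem y.2) x.2) hc
      exact Subtype.ext (inv_mul_eq_one.1 this).symm
    have h2 : ∀ f : L, ρ ((f : A) * h * (f : A)⁻¹) m = ρ ((e f : L) : A) (ρ h m) := fun f => by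
      rw [← rho_mul]
      congr 2
      show (f : A) * h * (f : A)⁻¹ = (f : A) * ((h : A) * (f : A)⁻¹ * (h : A)⁻¹) * h
      group
    rw [Finset.sum_congr rfl fun f _ => h2 f,
      Fintype.sum_bijective e he _ (fun f : L => ρ (f : A) (ρ h m)) (fun _ => rfl), ← trace_def,
      trace_eq_zero ρ hfix]
  · exact fun h => absurd (Finset.mem_univ _) h

theorem exists_inv_nsmul {n N : ℕ} (hn : n.Coprime N) (hN : ∀ m : M, N • m = 0) :
    ∃ b : ℕ, ∀ m : M, b • n • m = m := by
  rcases Nat.lt_or_ge 1 N with h | h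
  · obtain ⟨b, hb⟩ := Nat.exists_mul_mod_eq_one_of_coprime hn h
    refine ⟨b, fun m => ?_⟩
    have hdm := Nat.mod_add_div (n * b) N
    rw [hb.2] at hdm
    rw [← mul_smul, mul_comm, ← hdm, add_smul, one_smul, mul_comm N, mul_smul, hN, smul_zero,
      add_zero]
  · refine ⟨1, fun m => ?_⟩
    interval_cases N
    · rw [Nat.coprime_zero_right] at hn
      rw [hn, one_smul, one_smul]
    · have h0 : m = 0 := (one_smul ℕ m).symm.trans (hN m)
      rw [h0, smul_zero, smul_zero]

/-- The fixed points of `H` and their translates by `L` generate. -/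
theorem closure_translates_eq_top (L H : Subgroup A)
    (hnorm : ∀ h ∈ H, ∀ f ∈ L, h * f * h⁻¹ ∈ L)
    (hfpf : ∀ h ∈ H, h ≠ 1 → ∀ f ∈ L, h * f = f * h → f = 1)
    (hfix : ∀ m, (∀ f ∈ L, ρ f m = m) → m = 0)
    (hinv : ∃ b : ℕ, ∀ m : M, b • Nat.card L • m = m) :
    AddSubgroup.closure {m : M | ∃ f ∈ L, ∃ c, (∀ h ∈ H, ρ h c = c) ∧ m = ρ f c} = ⊤ := by
  letI := Fintype.ofFinite L
  obtain ⟨b, hb⟩ := hinv
  rw [eq_top_iff]
  intro m _
  rw [← hb m, ← sum_translates_trace ρ L H hnorm hfpf hfix m]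
  refine nsmul_mem (sum_mem fun f _ => AddSubgroup.subset_closure ?_) b
  exact ⟨f, f.2, _, fun h hh => rho_trace ρ hh _, rfl⟩

/-- Every cocycle of `H` is a coboundary. -/
theorem exists_coboundary (L H : Subgroup A)
    (hnorm : ∀ h ∈ H, ∀ f ∈ L, h * f * h⁻¹ ∈ L)
    (hfpf : ∀ h ∈ H, h ≠ 1 → ∀ f ∈ L, h * f = f * h → f = 1)
    (hfix : ∀ m, (∀ f ∈ L, ρ f m = m) → m = 0)
    (hinv : ∃ b : ℕ, ∀ m : M, b • Nat.card L • m = m)
    (c : A → M) (hc : ∀ g ∈ H, ∀ h ∈ H, c (g * h) = c g + ρ g (c h)) :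
    ∃ d : M, ∀ h ∈ H, c h = ρ h d - d := by
  classical
  letI := Fintype.ofFinite L
  letI := Fintype.ofFinite H
  have htr : ∀ h ∈ H, trace ρ H (c h) = 0 := by
    intro h hh
    rw [trace_def, Finset.sum_congr rfl fun (g : H) _ =>
      show ρ (g : A) (c h) = c ((g : A) * h) - c g by rw [hc g g.2 h hh]; abel,
      Finset.sum_sub_distrib, sub_eq_zero]
    exact Fintype.sum_equiv (Equiv.mulRight (⟨h, hh⟩ : H)) _ _ fun g => rfl
  let cj : H → L → L := fun g f => ⟨(g : A) * f * (g : A)⁻¹, hnorm g g.2 f f.2⟩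
  have hcjmul : ∀ g g' f, cj g (cj g' f) = cj (g * g') f := fun g g' f => Subtype.ext (by
    show (g : A) * ((g' : A) * f * (g' : A)⁻¹) * (g : A)⁻¹
      = ((g : A) * g') * f * ((g : A) * g')⁻¹
    group)
  have hcj1 : ∀ f, cj 1 f = f := fun f => Subtype.ext (by
    show ((1 : H) : A) * f * ((1 : H) : A)⁻¹ = f
    simp)
  let cje : H → (L ≃ L) := fun g =>
    { toFun := cj g
      invFun := cj g⁻¹
      left_inv := fun f => by rw [hcjmul, inv_mul_cancel, hcj1]
      right_inv := fun f => by rw [hcjmul, mul_inv_cancel, hcj1] }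
  have hfree : ∀ (g : H) (f : L), f ≠ 1 → cj g f = f → g = 1 := by
    intro g f hf hgf
    by_contra hg
    apply hf
    apply Subtype.ext
    refine hfpf g g.2 (fun e => hg (Subtype.ext e)) f f.2 ?_
    have h0 : (g : A) * f * (g : A)⁻¹ = f := congrArg Subtype.val hgf
    calc (g : A) * f = (g : A) * f * (g : A)⁻¹ * g := by group
      _ = f * g := by rw [h0]
  have hcjne : ∀ (g : H) (f : L), f ≠ 1 → cj g f ≠ 1 := fun g f hf he => hf (by
    have h0 : (g : A) * f * (g : A)⁻¹ = 1 := congrArg Subtype.val he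
    exact Subtype.ext (by simpa using conj_eq_one_iff.1 h0))
  let e := Fintype.equivFin L
  let w : L → ℕ := fun f => if f ≠ 1 ∧ ∀ g : H, e f ≤ e (cj g f) then 1 else 0
  have hw : ∀ f : L, ∑ g : H, w (cj g⁻¹ f) = if f = 1 then 0 else 1 := by
    intro f
    split_ifs with hf
    · subst hf
      refine Finset.sum_eq_zero fun g _ => ?_
      have h0 : cj g⁻¹ 1 = 1 := Subtype.ext (by
        show ((g⁻¹ : H) : A) * ((1 : L) : A) * ((g⁻¹ : H) : A)⁻¹ = ((1 : L) : A)
        simp)
      simp [w, h0]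
    · obtain ⟨g0, -, hg0⟩ := Finset.exists_min_image (Finset.univ : Finset H)
        (fun g => e (cj g⁻¹ f)) ⟨1, Finset.mem_univ _⟩
      rw [Finset.sum_eq_single g0]
      · simp only [w]
        rw [if_pos]
        refine ⟨hcjne _ _ hf, fun g => ?_⟩
        have := hg0 (g * g0⁻¹)⁻¹ (Finset.mem_univ _)
        rw [inv_inv] at this
        rwa [hcjmul]
      · intro g _ hg
        simp only [w]
        rw [if_neg]
        rintro ⟨-, hmin⟩
        have h1 : e (cj g⁻¹ f) ≤ e (cj g0⁻¹ f) := by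
          have := hmin (g0⁻¹ * g)
          rwa [hcjmul, mul_assoc, mul_inv_cancel, mul_one] at this
        have h2 := e.injective (le_antisymm h1 (hg0 g (Finset.mem_univ _)))
        have h3 : cj (g0 * g⁻¹) f = f := by
          rw [← hcjmul, h2, hcjmul, mul_inv_cancel, hcj1]
        exact hg (mul_inv_eq_one.1 (hfree _ f hf h3)).symm
      · exact fun h => absurd (Finset.mem_univ _) h
  let T : L → M → M := fun f m => ρ (f : A) (trace ρ H (ρ (f : A)⁻¹ m))
  let ψ : M → M := fun m => ∑ f : L, w f • T f m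
  have hψ : ∀ a b, ψ (a + b) = ψ a + ψ b := fun a b => by
    simp only [ψ, T, map_add, trace_def, Finset.sum_add_distrib, smul_add]
  have hD : ∀ h ∈ H, ∑ g : H, ρ (g : A) (ψ (ρ (g : A)⁻¹ (c h))) = Nat.card L • c h := by
    intro h hh
    have h1 : ∀ (g : H) (f : L), ρ (g : A) (T f (ρ (g : A)⁻¹ (c h))) = T (cj g f) (c h) := by
      intro g f
      simp only [T, trace_def, map_sum]
      refine Fintype.sum_equiv (MulAut.conj g).toEquiv _ _ fun x => ?_
      simp only [← rho_mul]
      congr 2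
      show (g : A) * ((f : A) * ((x : A) * ((f : A)⁻¹ * (g : A)⁻¹)))
        = (g : A) * f * (g : A)⁻¹ *
          ((g : A) * x * (g : A)⁻¹ * ((g : A) * f * (g : A)⁻¹)⁻¹)
      group
    calc ∑ g : H, ρ (g : A) (ψ (ρ (g : A)⁻¹ (c h)))
        = ∑ g : H, ∑ f : L, w (cj g⁻¹ f) • T f (c h) := by
          refine Finset.sum_congr rfl fun g _ => ?_
          simp only [ψ, map_sum, map_nsmul]
          rw [Finset.sum_congr rfl fun f _ => by rw [h1 g f]]
          refine Fintype.sum_equiv (cje g) _ _ fun f => ?_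
          show w f • T (cj g f) (c h) = w (cj g⁻¹ (cj g f)) • T (cj g f) (c h)
          rw [hcjmul, inv_mul_cancel, hcj1]
      _ = ∑ f : L, (if f = 1 then (0 : ℕ) else 1) • T f (c h) := by
          rw [Finset.sum_comm]
          exact Finset.sum_congr rfl fun f _ => by rw [← Finset.sum_smul, hw]
      _ = ∑ f : L, T f (c h) := by
          refine Finset.sum_congr rfl fun f _ => ?_
          split_ifs with hf
          · subst hf
            simp [T, htr h hh]
          · rw [one_smul]
      _ = Nat.card L • c h := sum_translates_trace ρ L H hnorm hfpf hfix _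
  obtain ⟨b, hb⟩ := hinv
  refine ⟨b • ∑ g : H, ρ (g : A) (ψ (c (g : A)⁻¹)), fun h hh => ?_⟩
  rw [map_nsmul, ← smul_sub]
  conv_lhs => rw [← hb (c h)]
  congr 1
  have h3 : ρ h (∑ g : H, ρ (g : A) (ψ (c (g : A)⁻¹)))
      = ∑ g : H, ρ (g : A) (ψ (c ((g : A)⁻¹ * h))) := by
    rw [map_sum]
    refine Fintype.sum_equiv (Equiv.mulLeft (⟨h, hh⟩ : H)) _ _ fun g => ?_
    show ρ h (ρ (g : A) (ψ (c (g : A)⁻¹))) = ρ (h * g) (ψ (c ((h * g)⁻¹ * h)))
    rw [← rho_mul]
    congr 3
    group
  rw [h3, ← Finset.sum_sub_distrib, ← hD h hh]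
  refine Finset.sum_congr rfl fun g _ => ?_
  rw [hc _ (H.inv_mem g.2) h hh, hψ, map_add, add_sub_cancel_left]

/-- An abelian group permuted by `L` and `H` that is generated by translates of elements centralising
the fixed points of `H` acts trivially. -/
theorem trivial_of_weights {Q : Type*} [CommGroup Q] [Finite Q] (L H : Subgroup A)
    (hnorm : ∀ h ∈ H, ∀ f ∈ L, h * f * h⁻¹ ∈ L)
    (hfpf : ∀ h ∈ H, h ≠ 1 → ∀ f ∈ L, h * f = f * h → f = 1)
    (hfix : ∀ m, (∀ f ∈ L, ρ f m = m) → m = 0)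
    (N : ℕ) (hN : ∀ m : M, N • m = 0) (hL : (Nat.card L).Coprime N) (hQ : (Nat.card Q).Coprime N)
    (ψ : A →* MulAut Q) (σ : Q →* AddMonoid.End M)
    (hcompat : ∀ a x m, ρ a (σ x m) = σ (ψ a x) (ρ a m))
    (hcent : ∀ x, (∀ h ∈ H, ψ h x = x) → ∀ m, (∀ h ∈ H, ρ h m = m) → σ x m = m)
    (hgen : Subgroup.closure {x : Q | ∃ f, ∃ y, (∀ h ∈ H, ψ h y = y) ∧ x = ψ f y} = ⊤)
    (x : Q) (m : M) : σ x m = m := by
  classical
  letI := Fintype.ofFinite Q
  have hσ : ∀ a b m, σ (a * b) m = σ a (σ b m) := fun a b m => by rw [map_mul]; rfl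
  have hσ1 : ∀ m, σ 1 m = m := fun m => by rw [map_one]; rfl
  have hinvof : ∀ n : ℕ, n.Coprime N → ∀ u : M, n • u = 0 → u = 0 := fun n hn u hu => by
    obtain ⟨b, hb⟩ := exists_inv_nsmul (M := M) hn hN
    rw [← hb u, hu, smul_zero]
  by_contra hne
  let tot : M → M := fun u => ∑ y : Q, σ y u
  let P : Subgroup Q → Prop := fun K => ∃ u : M, u ≠ 0 ∧ (∀ k ∈ K, σ k u = u) ∧ tot u = 0
  have hP : P ⊥ := by
    refine ⟨Nat.card Q • m - tot m, fun h0 => hne ?_, fun k hk => by
      rw [Subgroup.mem_bot.1 hk, hσ1], ?_⟩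
    · have h1 : Nat.card Q • (σ x m - m) = 0 := by
        have h2 : σ x (tot m) = tot m := by
          simp only [tot, map_sum]
          exact Fintype.sum_equiv (Equiv.mulLeft x) _ _ fun y => (hσ x y m).symm
        rw [← sub_eq_zero.1 h0, map_nsmul] at h2
        rw [smul_sub, h2, sub_self]
      exact sub_eq_zero.1 (hinvof _ hQ _ h1)
    · have h2 : ∀ z, σ z (tot m) = tot m := fun z => by
        simp only [tot, map_sum]
        exact Fintype.sum_equiv (Equiv.mulLeft z) _ _ fun y => (hσ z y m).symm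
      show ∑ z : Q, σ z (Nat.card Q • m - tot m) = 0
      simp only [map_sub, map_nsmul, Finset.sum_sub_distrib, h2, ← Finset.smul_sum,
        Finset.sum_const, Finset.card_univ, ← Nat.card_eq_fintype_card]
      exact sub_self _
  obtain ⟨K, hK, hKmax⟩ := (Set.toFinite {K | P K}).exists_maximalFor id _ ⟨⊥, hP⟩
  have hmax : ∀ y, ∀ u : M, u ≠ 0 → (∀ k ∈ K, σ k u = u) → tot u = 0 → σ y u = u → y ∈ K := by
    intro y u hu0 huK hut huy
    have hle : K ≤ K ⊔ Subgroup.zpowers y := le_sup_left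
    have hfix' : K ⊔ Subgroup.zpowers y ≤
        { carrier := {z | σ z u = u}
          one_mem' := hσ1 u
          mul_mem' := fun {a b} (ha : σ a u = u) (hb : σ b u = u) =>
            show σ (a * b) u = u by rw [hσ, hb, ha]
          inv_mem' := fun {a} (ha : σ a u = u) => show σ a⁻¹ u = u by
            conv_lhs => rw [← ha]
            rw [← hσ, inv_mul_cancel, hσ1] } :=
      sup_le huK ((Subgroup.zpowers_le).2 huy)
    have := hKmax (j := K ⊔ Subgroup.zpowers y) ⟨u, hu0, fun k hk => hfix' hk, hut⟩ hle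
    exact this (Subgroup.mem_sup_right (Subgroup.mem_zpowers y))
  -- translates of `K`
  have htot : ∀ a u, tot (ρ a u) = ρ a (tot u) := fun a u => by
    simp only [tot, map_sum, hcompat]
    exact (Fintype.sum_equiv (ψ a).toEquiv _ _ fun y => rfl).symm
  have key : ∀ a, ∀ y, (∀ h ∈ H, ψ h y = y) → y ∈ K.comap (ψ a⁻¹).toMonoidHom := by
    intro a y hy
    let K' := K.comap (ψ a⁻¹).toMonoidHom
    let W : M → Prop := fun u => (∀ k ∈ K', σ k u = u) ∧ tot u = 0
    have hmax' : ∀ z, ∀ u, u ≠ 0 → W u → σ z u = u → z ∈ K' := by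
      intro z u hu0 hu huz
      show ψ a⁻¹ z ∈ K
      refine hmax _ (ρ a⁻¹ u) (fun h0 => hu0 ?_) (fun k hk => ?_) ?_ ?_
      · rw [← rho_self_inv ρ a u, h0, map_zero]
      · have hk' : ψ a k ∈ K' := by
          show ψ a⁻¹ (ψ a k) ∈ K
          rw [← MulAut.mul_apply, ← map_mul, inv_mul_cancel, map_one]
          exact hk
        have := hcompat a⁻¹ (ψ a k) u
        rw [hu.1 _ hk', ← MulAut.mul_apply, ← map_mul, inv_mul_cancel, map_one] at this
        exact this.symm
      · rw [htot, hu.2, map_zero]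
      · rw [← hcompat, huz]
    obtain ⟨u0, hu00, hu0K, hu0t⟩ := hK
    have hW0 : W (ρ a u0) := by
      refine ⟨fun k hk => ?_, by rw [htot, hu0t, map_zero]⟩
      have := hcompat a (ψ a⁻¹ k) u0
      rw [show σ (ψ a⁻¹ k) u0 = u0 from hu0K _ hk, ← MulAut.mul_apply, ← map_mul, mul_inv_cancel, map_one] at this
      exact this.symm
    have hW0ne : ρ a u0 ≠ 0 := fun h0 => hu00 (by rw [← rho_inv_self ρ a u0, h0, map_zero])
    letI := Fintype.ofFinite K'
    let avK : M → M := fun u => ∑ k : K', σ (k : Q) u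
    have hKcop : (Nat.card K').Coprime N := hQ.coprime_dvd_left (Subgroup.card_subgroup_dvd_card _)
    have hσρ : ∀ u, ∀ k ∈ K', σ k u = u → ∀ b, σ (ψ b k) (ρ b u) = ρ b u := fun u k _ hu b => by
      rw [← hcompat, hu]
    -- elements moving `K'` kill
    have hkill : ∀ (b : A) (u : M), W u → ¬ (∀ k ∈ K', ψ b k ∈ K') → avK (ρ b u) = 0 := by
      intro b u hu hb
      simp only [not_forall] at hb
      obtain ⟨k, hk, hk'⟩ := hb
      by_contra h0
      refine hk' (hmax' _ _ h0 ⟨fun k' hk'' => ?_, ?_⟩ ?_)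
      · simp only [avK, map_sum]
        exact Fintype.sum_equiv (Equiv.mulLeft (⟨k', hk''⟩ : K')) _ _ fun z => (hσ k' z _).symm
      · simp only [tot, avK, map_sum]
        rw [Finset.sum_comm]
        refine Finset.sum_eq_zero fun z _ => ?_
        have h4 : ∑ w : Q, σ w (σ (z : Q) (ρ b u)) = tot (ρ b u) :=
          Fintype.sum_equiv (Equiv.mulRight (z : Q)) _ _ fun w => (hσ w z _).symm
        rw [h4, htot, hu.2, map_zero]
      · simp only [avK, map_sum]
        refine Finset.sum_congr rfl fun z _ => ?_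
        rw [← hσ, mul_comm, hσ, hσρ u k hk (hu.1 k hk) b]
    -- the stabiliser of `K'`
    let S : Subgroup A :=
      { carrier := {b | ∀ k, k ∈ K' ↔ ψ b k ∈ K'}
        one_mem' := fun k => by rw [map_one]; rfl
        mul_mem' := fun {b c} hb hc k => by
          rw [map_mul, MulAut.mul_apply, hc k]; exact hb _
        inv_mem' := fun {b} hb k => by
          rw [hb (ψ b⁻¹ k), ← MulAut.mul_apply, ← map_mul, mul_inv_cancel, map_one]
          rfl }
    have hS : ∀ b, b ∉ S → ¬ ∀ k ∈ K', ψ b k ∈ K' := by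
      intro b hb hall
      apply hb
      intro k
      refine ⟨hall k, fun hk => ?_⟩
      have hsurj : Function.Surjective fun z : K' => (⟨ψ b z, hall z z.2⟩ : K') :=
        Finite.injective_iff_surjective.1 fun z z' he =>
          Subtype.ext ((ψ b).injective (congrArg Subtype.val he))
      obtain ⟨z, hz⟩ := hsurj ⟨ψ b k, hk⟩
      rw [← (ψ b).injective (congrArg Subtype.val hz)]
      exact z.2
    have hWS : ∀ b ∈ S, ∀ u, W u → W (ρ b u) := by
      intro b hb u hu
      refine ⟨fun k hk => ?_, by rw [htot, hu.2, map_zero]⟩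
      have hk' : ψ b⁻¹ k ∈ K' := (S.inv_mem hb k).1 hk
      have := hσρ u _ hk' (hu.1 _ hk') b
      rwa [← MulAut.mul_apply, ← map_mul, mul_inv_cancel, map_one] at this
    have hav : ∀ u, W u → avK u = Nat.card K' • u := fun u hu => by
      simp only [avK]
      rw [Finset.sum_congr rfl fun (k : K') _ => hu.1 k k.2, Finset.sum_const, Finset.card_univ,
        Nat.card_eq_fintype_card]
    have hsum : ∀ (B : Subgroup A) (u : M), W u →
        avK (trace ρ B u) = Nat.card K' • trace ρ (B ⊓ S) u := by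
      intro B u hu
      letI := Fintype.ofFinite B
      letI := Fintype.ofFinite (B ⊓ S : Subgroup A)
      rw [trace_def, trace_def, Finset.smul_sum]
      have h5 : avK (∑ b : B, ρ (b : A) u) = ∑ b : B, avK (ρ (b : A) u) := by
        simp only [avK, map_sum]
        exact Finset.sum_comm
      rw [h5, ← Finset.sum_filter_add_sum_filter_not Finset.univ (fun b : B => (b : A) ∈ S)]
      rw [Finset.sum_eq_zero (s := Finset.univ.filter fun b : B => ¬ (b : A) ∈ S) fun b hb =>
        hkill _ u hu (hS _ (Finset.mem_filter.1 hb).2), add_zero]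
      refine Finset.sum_bij (fun b hb => ⟨(b : A), b.2, (Finset.mem_filter.1 hb).2⟩)
        (fun b hb => Finset.mem_univ _) (fun b _ b' _ he => Subtype.ext (congrArg Subtype.val he :))
        (fun b _ => ⟨⟨b, b.2.1⟩, Finset.mem_filter.2 ⟨Finset.mem_univ _, b.2.2⟩, rfl⟩)
        fun b hb => ?_
      exact hav _ (hWS _ (Finset.mem_filter.1 hb).2 u hu)
    have hfixW : ∀ u, W u → (∀ f ∈ L ⊓ S, ρ f u = u) → u = 0 := by
      intro u hu huf
      have h6 := hsum L u hu
      rw [trace_eq_zero ρ hfix, trace_of_fixed ρ huf, ← mul_smul] at h6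
      refine hinvof _ (hKcop.mul_left
        (hL.coprime_dvd_left (Subgroup.card_dvd_of_le (inf_le_left : L ⊓ S ≤ L)))) u ?_
      rw [← h6]
      simp [avK]
    let WG : AddSubgroup M :=
      { carrier := {u | W u}
        zero_mem' := ⟨fun k _ => map_zero _, by simp [tot]⟩
        add_mem' := fun {u v} hu hv => ⟨fun k hk => by rw [map_add, hu.1 k hk, hv.1 k hk], by
          simp only [tot, map_add, Finset.sum_add_distrib]
          rw [show ∑ y : Q, σ y u = 0 from hu.2, show ∑ y : Q, σ y v = 0 from hv.2, add_zero]⟩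
        neg_mem' := fun {u} hu => ⟨fun k hk => by rw [map_neg, hu.1 k hk], by
          simp only [tot, map_neg, Finset.sum_neg_distrib]
          rw [show ∑ y : Q, σ y u = 0 from hu.2, neg_zero]⟩ }
    let τ : ↥S →* AddMonoid.End WG :=
      { toFun := fun b =>
          { toFun := fun u => ⟨ρ (b : A) u, hWS b b.2 u u.2⟩
            map_zero' := Subtype.ext (map_zero _)
            map_add' := fun u v => Subtype.ext (map_add _ _ _) }
        map_one' := AddMonoidHom.ext fun u => Subtype.ext (rho_one ρ _)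
        map_mul' := fun b c => AddMonoidHom.ext fun u => Subtype.ext (rho_mul ρ _ _ _) }
    have htau : ∀ (B : Subgroup A) (u : WG),
        ((trace τ (B.subgroupOf S) u : WG) : M) = trace ρ (B ⊓ S) u := by
      intro B u
      letI := Fintype.ofFinite (B.subgroupOf S)
      letI := Fintype.ofFinite (B ⊓ S : Subgroup A)
      rw [trace_def, trace_def, AddSubgroup.val_finsetSum]
      exact Fintype.sum_bijective (fun b : B.subgroupOf S => (⟨_, b.2, b.1.2⟩ : (B ⊓ S : Subgroup A)))
        ⟨fun b b' he => Subtype.ext (Subtype.ext (congrArg Subtype.val he :)),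
          fun b => ⟨⟨⟨b, b.2.2⟩, b.2.1⟩, rfl⟩⟩ _ _ fun b => rfl
    obtain ⟨u, hu⟩ : ∃ u : WG, trace τ (H.subgroupOf S) u ≠ 0 := by
      by_contra hall
      push Not at hall
      letI := Fintype.ofFinite (L.subgroupOf S)
      have h7 := sum_translates_trace τ (L.subgroupOf S) (H.subgroupOf S)
        (fun h hh f hf => hnorm h hh f hf)
        (fun h hh hne f hf hc => Subtype.ext
          (hfpf h hh (fun e => hne (Subtype.ext e)) f hf (congrArg Subtype.val hc)))
        (fun v hv => Subtype.ext (hfixW v v.2 fun f hf =>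
          congrArg Subtype.val (hv ⟨f, hf.2⟩ hf.1)))
        ⟨ρ a u0, hW0⟩
      simp only [hall, map_zero, Finset.sum_const_zero] at h7
      have h8 : Nat.card (L.subgroupOf S) • ρ a u0 = 0 := congrArg Subtype.val h7.symm
      refine hW0ne (hinvof _ (hL.coprime_dvd_left ?_) _ h8)
      have h11 : (L.subgroupOf S).map S.subtype ≤ L := by
        rw [Subgroup.subgroupOf_map_subtype]; exact inf_le_left
      have := Subgroup.card_dvd_of_le h11
      rwa [Subgroup.card_map_of_injective S.subtype_injective] at this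
    set w : M := trace ρ (H ⊓ S) (u : M) with hw
    have hw0 : w ≠ 0 := fun h0 => hu (Subtype.ext ((htau H u).trans h0))
    have hwW : W w := by
      have := (trace τ (H.subgroupOf S) u).2
      rwa [htau] at this
    refine hmax' y w hw0 hwW ?_
    -- `y` fixes the trace of `u`
    have h9 : σ y (avK (trace ρ H u)) = avK (trace ρ H u) := by
      simp only [avK, map_sum]
      refine Finset.sum_congr rfl fun k _ => ?_
      rw [← hσ, mul_comm, hσ, hcent y hy _ fun h hh => rho_trace ρ hh _]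
    rw [hsum H u u.2, map_nsmul] at h9
    exact sub_eq_zero.1 (hinvof _ hKcop _ (by rw [smul_sub, hw, h9, sub_self]))
  -- hence `K` is everything
  have hKtop : (⊤ : Subgroup Q) ≤ K := by
    rw [← hgen, Subgroup.closure_le]
    rintro _ ⟨f, y, hy, rfl⟩
    have := key f⁻¹ y hy
    rwa [inv_inv] at this
  obtain ⟨u, hu0, huK, hut⟩ := hK
  refine hu0 (hinvof _ hQ u ?_)
  have h10 : tot u = ∑ _y : Q, u := Finset.sum_congr rfl fun z _ => huK z (hKtop trivial)
  rw [h10, Finset.sum_const, Finset.card_univ] at hut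
  rwa [Nat.card_eq_fintype_card]

end CfsgLib.FrobKernelFixed
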