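import Mathlib
import Cfsg.Agent.FrobKernelFixed.Module
import Cfsg.Agent.Coprime.ActionHom
import Cfsg.Agent.PLocal.Cores
import Cfsg.Agent.Solvable.Fitting

/-!
# Actions without fixed points of the kernel: group-level tools

Restriction and quotient actions, fixed points of `p`-groups of automorphisms, the part of a
nilpotent group prime to `p`, and fixed cosets of an elementary abelian invariant normal subgroup.
-/

set_option autoImplicit false
set_option linter.style.haveILetI false
set_option linter.unusedSectionVars false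

namespace CfsgLib.FrobKernelFixed

universe u v

open Subgroup

variable {A : Type v} [Group A] {G : Type u} [Group G] (φ : A →* MulAut G)

/-- The points fixed by a subgroup of the acting group. -/
def fixedBy (B : Subgroup A) : Subgroup G where
  carrier := {g | ∀ b ∈ B, φ b g = g}
  one_mem' _ _ := map_one _
  mul_mem' {x y} hx hy b hb := by rw [map_mul, hx b hb, hy b hb]
  inv_mem' {x} hx b hb := by rw [map_inv, hx b hb]

theorem mem_fixedBy {B : Subgroup A} {g : G} : g ∈ fixedBy φ B ↔ ∀ b ∈ B, φ b g = g := Iff.rfl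

theorem apply_apply (a b : A) (g : G) : φ a (φ b g) = φ (a * b) g := by
  rw [map_mul]; rfl

theorem one_apply' (g : G) : φ 1 g = g := by rw [map_one]; rfl

/-- A subgroup is invariant. -/
def IsInv (K : Subgroup G) : Prop := ∀ a, ∀ x ∈ K, φ a x ∈ K

theorem fixedBy_isInv (B : Subgroup A) [hB : B.Normal] : IsInv φ (fixedBy φ B) := by
  intro a x hx b hb
  have h1 : a⁻¹ * b * a ∈ B := by simpa using hB.conj_mem b hb a⁻¹
  calc φ b (φ a x) = φ a (φ (a⁻¹ * b * a) x) := by
        rw [apply_apply, apply_apply]; congr 2; group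
    _ = φ a x := by rw [hx _ h1]

/-- The restricted action. -/
def restr (K : Subgroup G) (h : IsInv φ K) : A →* MulAut K where
  toFun a :=
    { toFun := fun x => ⟨φ a x, h a x x.2⟩
      invFun := fun x => ⟨φ a⁻¹ x, h a⁻¹ x x.2⟩
      left_inv := fun x => Subtype.ext (by
        show φ a⁻¹ (φ a (x : G)) = x
        rw [apply_apply, inv_mul_cancel, one_apply'])
      right_inv := fun x => Subtype.ext (by
        show φ a (φ a⁻¹ (x : G)) = x
        rw [apply_apply, mul_inv_cancel, one_apply'])
      map_mul' := fun x y => Subtype.ext (map_mul (φ a) (x : G) y) }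
  map_one' := MulEquiv.ext fun x => Subtype.ext (one_apply' φ (x : G))
  map_mul' a b := MulEquiv.ext fun x => Subtype.ext (apply_apply φ a b (x : G)).symm

@[simp]
theorem restr_apply (K : Subgroup G) (h : IsInv φ K) (a : A) (x : K) :
    (restr φ K h a x : G) = φ a x := rfl

/-- The induced action on a quotient. -/
def quot (N : Subgroup G) [N.Normal] (h : IsInv φ N) : A →* MulAut (G ⧸ N) where
  toFun a := QuotientGroup.congr N N (φ a) (le_antisymm (by
      rintro _ ⟨x, hx, rfl⟩; exact h a x hx)
    fun x hx => ⟨φ a⁻¹ x, h a⁻¹ x hx, by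
      show φ a (φ a⁻¹ x) = x
      rw [apply_apply, mul_inv_cancel, one_apply']⟩)
  map_one' := MulEquiv.ext fun x => by
    obtain ⟨y, rfl⟩ := QuotientGroup.mk_surjective x
    exact congrArg QuotientGroup.mk (one_apply' φ y)
  map_mul' a b := MulEquiv.ext fun x => by
    obtain ⟨y, rfl⟩ := QuotientGroup.mk_surjective x
    exact congrArg QuotientGroup.mk (apply_apply φ a b y).symm

@[simp]
theorem quot_mk (N : Subgroup G) [N.Normal] (h : IsInv φ N) (a : A) (g : G) :
    quot φ N h a (g : G ⧸ N) = ((φ a g : G) : G ⧸ N) := rfl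

theorem isInv_map {K : Subgroup G} (hK : IsInv φ K) (Z : Subgroup K)
    (hZ : IsInv (restr φ K hK) Z) : IsInv φ (Z.map K.subtype) := by
  rintro a _ ⟨z, hz, rfl⟩
  exact ⟨restr φ K hK a z, hZ a z hz, rfl⟩

theorem isInv_of_characteristic (Z : Subgroup G) [hZ : Z.Characteristic] : IsInv φ Z := by
  intro a x hx
  have := hZ.fixed (φ a)
  rw [← this] at hx
  exact hx

theorem isInv_normalizer {K : Subgroup G} (hK : IsInv φ K) :
    IsInv φ (normalizer (K : Set G)) := by
  intro a x hx
  have key : ∀ b, ∀ y, φ b y ∈ K ↔ y ∈ K := fun b y => ⟨fun hy => by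
    have := hK b⁻¹ _ hy
    rwa [apply_apply, inv_mul_cancel, one_apply'] at this, hK b y⟩
  rw [mem_normalizer_iff] at hx ⊢
  intro z
  have hz : z = φ a (φ a⁻¹ z) := by rw [apply_apply, mul_inv_cancel, one_apply']
  obtain ⟨w, rfl⟩ : ∃ w, φ a w = z := ⟨_, hz.symm⟩
  rw [key, hx, ← key a, map_mul (φ a), map_mul (φ a), map_inv (φ a)]

theorem isInv_inf {K K' : Subgroup G} (hK : IsInv φ K) (hK' : IsInv φ K') : IsInv φ (K ⊓ K') :=
  fun a x hx => ⟨hK a x hx.1, hK' a x hx.2⟩

theorem isInv_bot : IsInv φ ⊥ := fun a x hx => by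
  rw [mem_bot.1 hx, map_one]; exact one_mem _

theorem isInv_comap_mk {N : Subgroup G} [N.Normal] (h : IsInv φ N) {Z : Subgroup (G ⧸ N)}
    (hZ : IsInv (quot φ N h) Z) : IsInv φ (Z.comap (QuotientGroup.mk' N)) :=
  fun a _ hx => hZ a _ hx

/-! ### Fixed points of automorphism groups of prime power order -/

/-- A `p`-group of automorphisms of a group of order divisible by `p` fixes an element of
`p`-power order different from one. -/
theorem exists_fixed_of_pGroup [Finite G] {p : ℕ} [Fact p.Prime] {B : Subgroup A}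
    (hB : IsPGroup p B) (hp : p ∣ Nat.card G) :
    ∃ x : G, x ≠ 1 ∧ (∃ k : ℕ, orderOf x = p ^ k) ∧ ∀ b ∈ B, φ b x = x := by
  letI : MulDistribMulAction ↥B G := MulDistribMulAction.compHom G (φ.comp B.subtype)
  have hsm : ∀ (b : B) (g : G), b • g = φ b g := fun _ _ => rfl
  obtain ⟨R, hR⟩ := hB.nonempty_fixed_point_of_prime_not_dvd_card (Sylow p G)
    (not_dvd_card_sylow p G)
  have hRinv : ∀ (b : B), ∀ x ∈ (R : Subgroup G), φ b x ∈ (R : Subgroup G) := by
    intro b x hx
    have h1 : b • x ∈ ((b • R : Sylow p G) : Subgroup G) :=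
      Subgroup.smul_mem_pointwise_smul x b _ hx
    rw [hR b] at h1
    exact h1
  letI : MulAction ↥B ↥(R : Subgroup G) :=
    { smul := fun b x => ⟨φ b x, hRinv b x x.2⟩
      one_smul := fun x => Subtype.ext (one_apply' φ (x : G))
      mul_smul := fun b c x => Subtype.ext (apply_apply φ (b : A) c (x : G)).symm }
  have hpR : p ∣ Nat.card (R : Subgroup G) := R.dvd_card_of_dvd_card hp
  obtain ⟨x, hx, hx1⟩ := hB.exists_fixed_point_of_prime_dvd_card_of_fixed_point _ hpR
    (a := (1 : (R : Subgroup G))) (fun b => Subtype.ext (map_one (φ b)))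
  refine ⟨x, fun h => hx1 (Subtype.ext h.symm), ?_, fun b hb => congrArg Subtype.val (hx ⟨b, hb⟩)⟩
  obtain ⟨k, hk⟩ := IsPGroup.iff_orderOf.1 R.isPGroup' x
  exact ⟨k, by rw [orderOf_coe]; exact hk⟩

/-! ### The part of the nilpotent kernel prime to a prime -/

/-- The part of `F` prime to `p`, in the whole group. -/
def primePart (p : ℕ) (F : Subgroup A) : Subgroup A := (Cfsg.pPrimeCore p F).map F.subtype

theorem primePart_le (p : ℕ) (F : Subgroup A) : primePart p F ≤ F := map_subtype_le _

instance primePart_normal (p : ℕ) (F : Subgroup A) [F.Normal] : (primePart p F).Normal :=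
  inferInstanceAs ((Cfsg.pPrimeCore p F).map F.subtype).Normal

theorem coprime_card_primePart [Finite A] (p : ℕ) (F : Subgroup A) :
    (Nat.card (primePart p F)).Coprime p := by
  rw [primePart, card_map_of_injective F.subtype_injective]
  exact PLocal.coprime_card_pPrimeCore p F

theorem map_sylow_normal [Finite A] {q : ℕ} [Fact q.Prime] (F : Subgroup A) [F.Normal]
    [Group.IsNilpotent F] (Q : Sylow q F) : ((Q : Subgroup F).map F.subtype).Normal := by
  haveI : (Q : Subgroup F).Normal :=
    Q.normal_of_normalizerCondition Group.normalizerCondition_of_isNilpotent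
  haveI := Q.characteristic_of_normal ‹_›
  infer_instance

theorem map_sylow_le_primePart [Finite A] {p q : ℕ} [hp : Fact p.Prime] [hq : Fact q.Prime]
    (hqp : q ≠ p) (F : Subgroup A) [F.Normal] [Group.IsNilpotent F] (Q : Sylow q F) :
    (Q : Subgroup F).map F.subtype ≤ primePart p F := by
  haveI : (Q : Subgroup F).Normal :=
    Q.normal_of_normalizerCondition Group.normalizerCondition_of_isNilpotent
  obtain ⟨k, hk⟩ := IsPGroup.iff_card.1 Q.isPGroup'
  refine map_mono (PLocal.le_pPrimeCore ?_)
  rw [hk]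
  exact ((Nat.coprime_primes hq.out hp.out).2 hqp).pow_left k

theorem primePart_sup_sylow [Finite A] (p : ℕ) [hp : Fact p.Prime] (F : Subgroup A) [F.Normal]
    [Group.IsNilpotent F] (P : Sylow p F) :
    primePart p F ⊔ (P : Subgroup F).map F.subtype = F := by
  classical
  refine le_antisymm (sup_le (primePart_le p F) (map_subtype_le _)) ?_
  conv_lhs => rw [← range_subtype F, MonoidHom.range_eq_map]
  rw [← CfsgLib.Solvable.iSup_sylow_eq_top (G := F)
      (fun q => haveI := Fact.mk (Nat.prime_of_mem_primeFactors q.2);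
        Classical.arbitrary (Sylow (q : ℕ) F)), Subgroup.map_iSup]
  refine iSup_le fun q => ?_
  haveI := Fact.mk (Nat.prime_of_mem_primeFactors q.2)
  by_cases hq : (q : ℕ) = p
  · obtain ⟨q, hq'⟩ := q
    subst hq
    refine le_trans (map_mono ?_) le_sup_right
    haveI : (P : Subgroup F).Normal :=
      P.normal_of_normalizerCondition Group.normalizerCondition_of_isNilpotent
    haveI := P.unique_of_normal ‹_›
    exact le_of_eq (congrArg Sylow.toSubgroup (Subsingleton.elim _ P))
  · exact (map_sylow_le_primePart hq F _).trans le_sup_left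

/-- If `F` fixes nothing in a `p`-group then neither does its part prime to `p`. -/
theorem eq_one_of_fixed_primePart [Finite A] [Finite G] {p : ℕ} [Fact p.Prime] (hG : IsPGroup p G)
    {F : Subgroup A} [F.Normal] [Group.IsNilpotent F]
    (hfix : ∀ g, (∀ f ∈ F, φ f g = g) → g = 1) :
    ∀ g, (∀ f ∈ primePart p F, φ f g = g) → g = 1 := by
  intro g hg
  by_contra hne
  have hU := fixedBy_isInv φ (primePart p F)
  set U := fixedBy φ (primePart p F) with hUdef
  have hUne : U ≠ ⊥ := fun h => hne (mem_bot.1 (h ▸ hg))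
  have hpU : p ∣ Nat.card U := by
    haveI : Nontrivial U := (Subgroup.nontrivial_iff_ne_bot U).2 hUne
    obtain ⟨k, hk, hkc⟩ := (hG.to_subgroup U).nontrivial_iff_card.1 this
    exact hkc ▸ dvd_pow_self p hk.ne'
  let P : Sylow p F := Classical.arbitrary _
  obtain ⟨x, hx1, -, hx⟩ := exists_fixed_of_pGroup (restr φ U hU)
    (P.isPGroup'.map F.subtype) hpU
  refine hx1 (Subtype.ext (hfix x fun f hf => ?_))
  rw [← primePart_sup_sylow p F P] at hf
  have hle : primePart p F ⊔ (P : Subgroup F).map F.subtype ≤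
      { carrier := {a | φ a (x : G) = x}
        one_mem' := one_apply' φ _
        mul_mem' := fun {a b} (ha : φ a (x : G) = x) (hb : φ b (x : G) = x) =>
          show φ (a * b) (x : G) = x by rw [← apply_apply, hb, ha]
        inv_mem' := fun {a} (ha : φ a (x : G) = x) => show φ a⁻¹ (x : G) = x by
          conv_lhs => rw [← ha]
          rw [apply_apply, inv_mul_cancel, one_apply'] } :=
    sup_le (fun a ha => x.2 a ha) fun a ha => congrArg Subtype.val (hx a ha)
  exact hle hf

/-! ### Fixed cosets of an elementary abelian invariant normal subgroup -/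

variable {p : ℕ} [Fact p.Prime] [Finite A] [Finite G]

/-- An elementary abelian invariant normal subgroup as a module. -/
def moduleAction (V : Subgroup G) (hV : IsInv φ V) : A →* AddMonoid.End (Additive V) where
  toFun a := MonoidHom.toAdditive (restr φ V hV a).toMonoidHom
  map_one' := by
    refine AddMonoidHom.ext fun x => Additive.toMul.injective (Subtype.ext ?_)
    exact one_apply' φ _
  map_mul' a b := by
    refine AddMonoidHom.ext fun x => Additive.toMul.injective (Subtype.ext ?_)
    exact (apply_apply φ a b _).symm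

@[simp]
theorem moduleAction_apply (V : Subgroup G) (hV : IsInv φ V) (a : A) (x : Additive V) :
    (((moduleAction φ V hV a x).toMul : V) : G) = φ a (x.toMul : V) := rfl

variable {F H : Subgroup A} [F.Normal] [Group.IsNilpotent F]
  {V : Subgroup G} [V.Normal] (hV : IsInv φ V) (hVp : IsPGroup p V)
  (hfix : ∀ g, (∀ f ∈ F, φ f g = g) → g = 1)

include hV hVp hfix

theorem eq_one_of_mem_of_fixed_primePart {x : G} (hx : x ∈ V)
    (hfx : ∀ f ∈ primePart p F, φ f x = x) : x = 1 := by
  have := eq_one_of_fixed_primePart (restr φ V hV) hVp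
    (fun g hg => Subtype.ext (hfix g fun f hf => congrArg Subtype.val (hg f hf))) ⟨x, hx⟩
    (fun f hf => Subtype.ext (hfx f hf))
  exact congrArg Subtype.val this

/-- `F` fixes only the trivial coset of `V`. -/
theorem mem_of_fixed_coset {g : G} (hg : ∀ f ∈ F, g⁻¹ * φ f g ∈ V) : g ∈ V := by
  set L := primePart p F with hL
  haveI : Group.IsSolvable F := inferInstance
  haveI : Group.IsSolvable L :=
    Group.isSolvable_of_isSolvable_injective (Subgroup.inclusion_injective (primePart_le p F))
  obtain ⟨k, hk⟩ := IsPGroup.iff_card.1 hVp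
  obtain ⟨c, hc, hcV⟩ := CfsgLib.Coprime.exists_fixed_mem_coset_hom (φ.comp L.subtype)
    (N := V) (fun a x hx => hV a x hx)
    (by rw [hk]; exact (coprime_card_primePart p F).pow_right k)
    (Or.inl ‹_›) (k := g) (fun a => hg a (primePart_le p F a.2))
  have hc1 : c = 1 := by
    refine hfix c fun f hf => ?_
    have h1 : c⁻¹ * φ f c ∈ V := by
      have e : c⁻¹ * φ f c = (g⁻¹ * c)⁻¹ * (g⁻¹ * φ f g) * φ f (g⁻¹ * c) := by
        rw [map_mul, map_inv]; group
      rw [e]
      exact mul_mem (mul_mem (inv_mem hcV) (hg f hf)) (hV f _ hcV)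
    have h2 : c⁻¹ * φ f c = 1 := by
      refine eq_one_of_mem_of_fixed_primePart φ hV hVp hfix h1 fun l hl => ?_
      have hlc : φ l c = c := hc ⟨l, hl⟩
      have hl' : f⁻¹ * l * f ∈ L := by
        simpa using (primePart_normal p F).conj_mem l hl f⁻¹
      have hflc : φ l (φ f c) = φ f c := by
        calc φ l (φ f c) = φ f (φ (f⁻¹ * l * f) c) := by
              rw [apply_apply, apply_apply]; congr 2; group
          _ = φ f c := by rw [show φ (f⁻¹ * l * f) c = c from hc ⟨_, hl'⟩]
      rw [map_mul, map_inv, hlc, hflc]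
    exact (inv_mul_eq_one.1 h2).symm
  rw [hc1, mul_one] at hcV
  exact inv_mem_iff.1 hcV

/-- A coset of `V` fixed by `H` contains a point fixed by `H`. -/
theorem exists_fixed_of_coset (hVc : IsMulCommutative V) (hVe : ∀ x ∈ V, x ^ p = 1)
    (hfpf : ∀ h ∈ H, h ≠ 1 → ∀ f ∈ F, h * f = f * h → f = 1)
    {g : G} (hg : ∀ h ∈ H, g⁻¹ * φ h g ∈ V) :
    ∃ c : G, (∀ h ∈ H, φ h c = c) ∧ g⁻¹ * c ∈ V := by
  classical
  letI : CommGroup V :=
    { (inferInstance : Group V) with mul_comm := fun a b => hVc.is_comm.comm a b }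
  set L := primePart p F with hL
  let c : A → Additive V := fun a =>
    if ha : g⁻¹ * φ a g ∈ V then Additive.ofMul ⟨g⁻¹ * φ a g, ha⟩ else 0
  obtain ⟨d, hd⟩ := exists_coboundary (moduleAction φ V hV) L H
    (fun h hh f hf => (primePart_normal p F).conj_mem f hf h)
    (fun h hh h1 f hf => hfpf h hh h1 f (primePart_le p F hf))
    (fun m hm => Additive.toMul.injective (Subtype.ext
      (eq_one_of_mem_of_fixed_primePart φ hV hVp hfix (m.toMul : V).2
        fun f hf => congrArg (fun z : Additive V => ((z.toMul : V) : G)) (hm f hf))))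
    (exists_inv_nsmul (coprime_card_primePart p F)
      (fun m => Additive.toMul.injective (Subtype.ext (hVe _ (m.toMul : V).2))))
    c (fun a ha b hb => by
      simp only [c, dif_pos (hg a ha), dif_pos (hg b hb), dif_pos (hg _ (H.mul_mem ha hb))]
      refine Additive.toMul.injective (Subtype.ext ?_)
      show g⁻¹ * φ (a * b) g = g⁻¹ * φ a g * φ a (g⁻¹ * φ b g)
      rw [map_mul (φ a), map_inv (φ a), apply_apply]
      group)
  refine ⟨g * ((d.toMul : V) : G)⁻¹, fun h hh => ?_, by simp⟩
  have h1 := hd h hh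
  simp only [c, dif_pos (hg h hh)] at h1
  have h2 : g⁻¹ * φ h g = φ h ((d.toMul : V) : G) * ((d.toMul : V) : G)⁻¹ := by
    have := congrArg (fun z : Additive V => ((z.toMul : V) : G)) h1
    simpa [div_eq_mul_inv] using this
  have h3 : φ h g = g * (φ h ((d.toMul : V) : G) * ((d.toMul : V) : G)⁻¹) := by
    rw [← h2]; group
  have hcm : φ h ((d.toMul : V) : G) * ((d.toMul : V) : G)⁻¹ =
      ((d.toMul : V) : G)⁻¹ * φ h ((d.toMul : V) : G) :=
    congrArg Subtype.val
      (mul_comm (⟨_, hV h _ (d.toMul : V).2⟩ : V) ⟨_, inv_mem (d.toMul : V).2⟩)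
  rw [map_mul, map_inv, h3, hcm]
  group

end CfsgLib.FrobKernelFixed
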