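import Mathlib
import Cfsg.Agent.FrobKernelFixed.Group
import Cfsg.Agent.SolvCrit.ZJBasic
import Cfsg.Agent.NilpotentCover.Basic
import Cfsg.Agent.Transfer.GlaubermanThompson
import Cfsg.Agent.Transfer.NormalPComplement

/-!
# A group with a Frobenius group of automorphisms whose complement has nilpotent fixed points

If `F` is a nilpotent normal subgroup of `A` without fixed points in `G`, acted on fixed-point-freely
by `H`, and `C_G(H)` is nilpotent, then `G` is nilpotent. No coprimeness and no classification: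
a minimal counterexample has invariant Sylow subgroups for an odd prime, so the normal
`p`-complement theorem makes it solvable, and in the solvable case a weight argument applies.
-/

set_option autoImplicit false
set_option linter.style.haveILetI false
set_option linter.unusedSectionVars false

namespace CfsgLib.FrobKernelFixed

universe u v

open Subgroup

variable {A : Type v} [Group A] [Finite A] {F H : Subgroup A} [F.Normal] [Group.IsNilpotent F]

/-- The hypotheses on an action. -/
structure Hyp {G : Type u} [Group G] (φ : A →* MulAut G) (F H : Subgroup A) : Prop where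
  fpf : ∀ g, (∀ f ∈ F, φ f g = g) → g = 1
  nil : Group.IsNilpotent (fixedBy φ H)

theorem Hyp.restrict {G : Type u} [Group G] {φ : A →* MulAut G} (h : Hyp φ F H) {K : Subgroup G}
    (hK : IsInv φ K) : Hyp (restr φ K hK) F H := by
  refine ⟨fun g hg => Subtype.ext (h.fpf g fun f hf => congrArg Subtype.val (hg f hf)), ?_⟩
  haveI := h.nil
  let f : fixedBy (restr φ K hK) H →* fixedBy φ H :=
    (K.subtype.comp (fixedBy (restr φ K hK) H).subtype).codRestrict _
      fun x b hb => congrArg Subtype.val (x.2 b hb)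
  have hf : Function.Injective f := fun x y e =>
    Subtype.ext (Subtype.ext (congrArg Subtype.val e :))
  haveI : Group.IsNilpotent f.range := inferInstance
  exact Group.nilpotent_of_mulEquiv (MonoidHom.ofInjective hf).symm

theorem Hyp.quotient {G : Type u} [Group G] [Finite G] {φ : A →* MulAut G} (h : Hyp φ F H)
    (hfpf : ∀ h' ∈ H, h' ≠ 1 → ∀ f ∈ F, h' * f = f * h' → f = 1)
    {p : ℕ} [Fact p.Prime] {V : Subgroup G} [V.Normal] (hV : IsInv φ V) (hVp : IsPGroup p V)
    (hVc : IsMulCommutative V) (hVe : ∀ x ∈ V, x ^ p = 1) : Hyp (quot φ V hV) F H := by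
  constructor
  · intro g hg
    obtain ⟨x, rfl⟩ := QuotientGroup.mk_surjective g
    exact (QuotientGroup.eq_one_iff x).2 (mem_of_fixed_coset φ hV hVp h.fpf fun f hf =>
      QuotientGroup.eq.1 (hg f hf).symm)
  · haveI := h.nil
    let f : fixedBy φ H →* fixedBy (quot φ V hV) H :=
      ((QuotientGroup.mk' V).comp (fixedBy φ H).subtype).codRestrict _ fun x b hb =>
        congrArg QuotientGroup.mk (x.2 b hb)
    refine Group.nilpotent_of_surjective f fun y => ?_
    obtain ⟨x, hx⟩ := QuotientGroup.mk_surjective (y : G ⧸ V)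
    obtain ⟨c, hc, hcV⟩ := exists_fixed_of_coset φ hV hVp h.fpf hVc hVe hfpf (g := x)
      fun b hb => QuotientGroup.eq.1 (by
        have := y.2 b hb
        rw [← hx] at this
        exact this.symm)
    exact ⟨⟨c, hc⟩, Subtype.ext ((QuotientGroup.eq.2 hcV).symm.trans hx)⟩

theorem isSolvable_of_normal {G : Type u} [Group G] (N : Subgroup G) [N.Normal]
    (hN : Group.IsSolvable N) (hQ : Group.IsSolvable (G ⧸ N)) : Group.IsSolvable G :=
  Group.isSolvable_of_ker_le_range N.subtype (QuotientGroup.mk' N)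
    (by rw [QuotientGroup.ker_mk', range_subtype])

theorem isNilpotent_of_two {G : Type u} [Group G] (N M : Subgroup G) [N.Normal] [M.Normal]
    (hN : Group.IsNilpotent (G ⧸ N)) (hM : Group.IsNilpotent (G ⧸ M)) (hi : N ⊓ M = ⊥) :
    Group.IsNilpotent G := by
  let f : G →* (G ⧸ N) × (G ⧸ M) := (QuotientGroup.mk' N).prod (QuotientGroup.mk' M)
  have hf : Function.Injective f := (MonoidHom.ker_eq_bot_iff f).1 (by
    rw [MonoidHom.ker_prod, QuotientGroup.ker_mk', QuotientGroup.ker_mk', hi])
  exact Group.nilpotent_of_mulEquiv (MonoidHom.ofInjective hf).symm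

/-- A solvable invariant normal subgroup contains an elementary abelian one. -/
theorem exists_elementary {G : Type u} [Group G] [Finite G] (φ : A →* MulAut G) {K : Subgroup G}
    [K.Normal] (hK : IsInv φ K) (hKs : Group.IsSolvable K) (hKne : K ≠ ⊥) :
    ∃ (p : ℕ) (V : Subgroup G), p.Prime ∧ V.Normal ∧ IsInv φ V ∧ V ≠ ⊥ ∧ V ≤ K ∧ IsPGroup p V ∧
      IsMulCommutative V ∧ ∀ x ∈ V, x ^ p = 1 := by
  obtain ⟨V, ⟨hVn, hVinv, hVne, hVK⟩, hmin⟩ := WellFounded.has_min
    (wellFounded_lt : WellFounded ((· < ·) : Subgroup G → Subgroup G → Prop))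
    {V : Subgroup G | V.Normal ∧ IsInv φ V ∧ V ≠ ⊥ ∧ V ≤ K} ⟨K, ‹_›, hK, hKne, le_rfl⟩
  haveI := hVn
  have hsmall : ∀ W : Subgroup G, W.Normal → IsInv φ W → W ≤ V → W = ⊥ ∨ W = V := by
    intro W hW hWi hWV
    by_contra hne
    push Not at hne
    exact hmin W ⟨hW, hWi, hne.1, hWV.trans hVK⟩ (lt_of_le_of_ne hWV hne.2)
  haveI := hKs
  haveI : Group.IsSolvable V :=
    Group.isSolvable_of_isSolvable_injective (Subgroup.inclusion_injective hVK)
  haveI : Nontrivial V := (nontrivial_iff_ne_bot V).2 hVne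
  have hcomm : (commutator V).map V.subtype = ⊥ := by
    refine (hsmall _ inferInstance (isInv_map φ hVinv _ (isInv_of_characteristic _ _))
      (map_subtype_le _)).resolve_right fun h => ?_
    apply ne_of_lt (Group.IsSolvable.commutator_lt_top_of_nontrivial V)
    apply map_injective V.subtype_injective
    rw [h, ← MonoidHom.range_eq_map, range_subtype]
  have hVc : IsMulCommutative V := IsMulCommutative.of_comm fun a b =>
    commutatorElement_eq_one_iff_mul_comm.1 <| Subtype.ext <| mem_bot.1 <| hcomm ▸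
      mem_map_of_mem V.subtype (commutator_mem_commutator (mem_top a) (mem_top b))
  obtain ⟨p, hp, hpV⟩ := Nat.exists_prime_and_dvd (n := Nat.card V) (by
    have := Finite.one_lt_card (α := V); omega)
  haveI := Fact.mk hp
  let U : Subgroup G :=
    { carrier := {x | x ∈ V ∧ x ^ p = 1}
      one_mem' := ⟨one_mem _, one_pow _⟩
      mul_mem' := fun {x y} hx hy => ⟨mul_mem hx.1 hy.1, by
        have hc : Commute x y := congrArg Subtype.val (hVc.is_comm.comm ⟨x, hx.1⟩ ⟨y, hy.1⟩)
        rw [hc.mul_pow, hx.2, hy.2, one_mul]⟩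
      inv_mem' := fun {x} hx => ⟨inv_mem hx.1, by rw [inv_pow, hx.2, inv_one]⟩ }
  have hUn : U.Normal := ⟨fun x hx g => ⟨hVn.conj_mem x hx.1 g, by
    rw [conj_pow, hx.2]; group⟩⟩
  have hUi : IsInv φ U := fun a x hx => ⟨hVinv a x hx.1, by rw [← map_pow, hx.2, map_one]⟩
  have hUV : U = V := (hsmall U hUn hUi fun x hx => hx.1).resolve_left fun h => by
    obtain ⟨x, hx⟩ := exists_prime_orderOf_dvd_card' p hpV
    have : (x : G) ∈ U := ⟨x.2, by
      rw [← SubmonoidClass.coe_pow, ← hx, pow_orderOf_eq_one]; rfl⟩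
    rw [h, mem_bot] at this
    have h1 : x = 1 := Subtype.ext this
    rw [h1, orderOf_one] at hx
    exact hp.one_lt.ne hx
  refine ⟨p, V, hp, hVn, hVinv, hVne, hVK, fun x => ⟨1, ?_⟩, hVc, fun x hx => ?_⟩
  · have h1 : (x : G) ∈ U := hUV.symm ▸ x.2
    exact Subtype.ext (by rw [SubmonoidClass.coe_pow, pow_one]; exact h1.2)
  · exact ((hUV.symm ▸ hx : x ∈ U)).2

variable {G : Type u} [Group G] [Finite G] {φ : A →* MulAut G}

/-- Reduction of a solvable group: the case where `G / V` is an abelian group of order prime to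
`p`. -/
theorem centralizes_of_abelian_quotient (h : Hyp φ F H)
    (hfpf : ∀ h' ∈ H, h' ≠ 1 → ∀ f ∈ F, h' * f = f * h' → f = 1)
    {p q : ℕ} [Fact p.Prime] [Fact q.Prime] (hpq : p ≠ q) {V : Subgroup G} [V.Normal]
    (hV : IsInv φ V) (hVp : IsPGroup p V) (hVc : IsMulCommutative V) (hVe : ∀ x ∈ V, x ^ p = 1)
    (hQq : IsPGroup q (G ⧸ V)) (hQc : IsMulCommutative (G ⧸ V)) : V ≤ center G := by
  classical
  letI : CommGroup V :=
    { (inferInstance : Group V) with mul_comm := fun a b => hVc.is_comm.comm a b }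
  letI : CommGroup (G ⧸ V) :=
    { (inferInstance : Group (G ⧸ V)) with mul_comm := fun a b => hQc.is_comm.comm a b }
  set ψ := quot φ V hV with hψ
  have hq := Hyp.quotient h hfpf hV hVp hVc hVe
  haveI := h.nil
  obtain ⟨i, hi⟩ := IsPGroup.iff_card.1 hVp
  obtain ⟨j, hj⟩ := IsPGroup.iff_card.1 hQq
  have hcop : (Nat.card (G ⧸ V)).Coprime p := by
    rw [hj]
    exact ((Nat.coprime_primes (Fact.out : q.Prime) (Fact.out : p.Prime)).2 hpq.symm).pow_left j
  let cj : G →* AddMonoid.End (Additive V) :=
    { toFun := fun g => MonoidHom.toAdditive (MulAut.conjNormal g : V ≃* V).toMonoidHom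
      map_one' := by
        refine AddMonoidHom.ext fun x => Additive.toMul.injective ?_
        show MulAut.conjNormal (1 : G) (x.toMul : V) = x.toMul
        rw [map_one]; rfl
      map_mul' := fun a b => by
        refine AddMonoidHom.ext fun x => Additive.toMul.injective ?_
        show MulAut.conjNormal (a * b) (x.toMul : V)
          = MulAut.conjNormal a (MulAut.conjNormal b (x.toMul : V))
        rw [map_mul]; rfl }
  have hcj : ∀ g (x : Additive V),
      (((cj g x).toMul : V) : G) = g * ((x.toMul : V) : G) * g⁻¹ := fun g x =>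
    MulAut.conjNormal_apply (H := V) g _
  have hker : V ≤ cj.ker := by
    intro v hv
    rw [MonoidHom.mem_ker]
    refine AddMonoidHom.ext fun x => Additive.toMul.injective (Subtype.ext ?_)
    refine (hcj v x).trans ?_
    have hc : Commute v ((x.toMul : V) : G) :=
      congrArg Subtype.val (hVc.is_comm.comm ⟨v, hv⟩ (x.toMul : V))
    rw [hc.eq, mul_inv_cancel_right]
    rfl
  let σ : G ⧸ V →* AddMonoid.End (Additive V) := QuotientGroup.lift V cj hker
  have hM : ∀ m : Additive V, p • m = 0 := fun m =>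
    Additive.toMul.injective (Subtype.ext (hVe _ (m.toMul : V).2))
  have hgen : Subgroup.closure
      {x : G ⧸ V | ∃ f, ∃ y, (∀ b ∈ H, ψ b y = y) ∧ x = ψ f y} = ⊤ := by
    let ρQ : A →* AddMonoid.End (Additive (G ⧸ V)) :=
      { toFun := fun a => MonoidHom.toAdditive (ψ a).toMonoidHom
        map_one' := by
          refine AddMonoidHom.ext fun x => Additive.toMul.injective ?_
          exact one_apply' ψ _
        map_mul' := fun a b => by
          refine AddMonoidHom.ext fun x => Additive.toMul.injective ?_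
          exact (apply_apply ψ a b _).symm }
    have hcl := closure_translates_eq_top ρQ (primePart q F) H
      (fun b _ f hf => (primePart_normal q F).conj_mem f hf b)
      (fun b hb hb1 f hf => hfpf b hb hb1 f (primePart_le q F hf))
      (fun m hm => Additive.toMul.injective
        (eq_one_of_fixed_primePart ψ hQq hq.fpf _ fun f hf => congrArg Additive.toMul (hm f hf)))
      (exists_inv_nsmul (N := Nat.card (G ⧸ V))
        (by rw [hj]; exact (coprime_card_primePart q F).pow_right j)
        fun m => Additive.toMul.injective (pow_card_eq_one' (x := m.toMul)))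
    rw [eq_top_iff]
    intro x _
    have hx : Additive.ofMul x ∈
        (⊤ : AddSubgroup (Additive (G ⧸ V))) := AddSubgroup.mem_top _
    rw [← hcl] at hx
    have hle : AddSubgroup.closure {m : Additive (G ⧸ V) |
        ∃ f ∈ primePart q F, ∃ c, (∀ b ∈ H, ρQ b c = c) ∧ m = ρQ f c} ≤
        Subgroup.toAddSubgroup (Subgroup.closure
          {x : G ⧸ V | ∃ f, ∃ y, (∀ b ∈ H, ψ b y = y) ∧ x = ψ f y}) := by
      rw [AddSubgroup.closure_le]
      rintro _ ⟨f, _, c, hc, rfl⟩
      show (ρQ f c).toMul ∈ Subgroup.closure _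
      exact Subgroup.subset_closure ⟨f, c.toMul, fun b hb => congrArg Additive.toMul (hc b hb), rfl⟩
    exact hle hx
  intro v hv
  rw [mem_center_iff]
  intro g
  have key := trivial_of_weights (moduleAction φ V hV) (primePart p F) H
    (fun b _ f hf => (primePart_normal p F).conj_mem f hf b)
    (fun b hb hb1 f hf => hfpf b hb hb1 f (primePart_le p F hf))
    (fun m hm => Additive.toMul.injective (Subtype.ext
      (eq_one_of_mem_of_fixed_primePart φ hV hVp h.fpf (m.toMul : V).2
        fun f hf => congrArg (fun z : Additive V => ((z.toMul : V) : G)) (hm f hf))))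
    p hM (coprime_card_primePart p F) hcop ψ σ
    (fun a x m => by
      obtain ⟨y, rfl⟩ := QuotientGroup.mk_surjective x
      refine Additive.toMul.injective (Subtype.ext ?_)
      show φ a (((cj y m).toMul : V) : G) = (((cj (φ a y) _).toMul : V) : G)
      rw [hcj, hcj, map_mul, map_mul, map_inv]
      rfl)
    (fun x hx m hm => by
      obtain ⟨y, rfl⟩ := QuotientGroup.mk_surjective x
      obtain ⟨c, hc, hcV⟩ := exists_fixed_of_coset φ hV hVp h.fpf hVc hVe hfpf (g := y)
        fun b hb => QuotientGroup.eq.1 (hx b hb).symm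
      have hyc : (y : G ⧸ V) = c := QuotientGroup.eq.2 hcV
      rw [hyc]
      show cj c m = m
      have hmC : ((m.toMul : V) : G) ∈ fixedBy φ H := fun b hb =>
        congrArg (fun z : Additive V => ((z.toMul : V) : G)) (hm b hb)
      have hcC : c ^ Nat.card V ∈ fixedBy φ H := pow_mem (show c ∈ fixedBy φ H from hc) _
      have hcomm : Commute (⟨_, hcC⟩ : fixedBy φ H) ⟨_, hmC⟩ := by
        refine NilpotentCover.commute_of_coprime _ _ ?_
        rw [← orderOf_coe, ← orderOf_coe]
        refine Nat.Coprime.coprime_dvd_left (k := Nat.card (G ⧸ V)) (orderOf_dvd_of_pow_eq_one ?_)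
          ((hcop.pow_right i).coprime_dvd_right ?_)
        · show (c ^ Nat.card V) ^ Nat.card (G ⧸ V) = 1
          rw [← pow_mul, mul_comm, ← Subgroup.card_eq_card_quotient_mul_card_subgroup,
            pow_card_eq_one']
        · rw [← hi]
          exact orderOf_coe (m.toMul : V) ▸ orderOf_dvd_natCard (m.toMul : V)
      have hcomm' : Commute (c ^ Nat.card V) ((m.toMul : V) : G) := congrArg Subtype.val hcomm
      obtain ⟨b, hb⟩ := exists_pow_eq_self_of_coprime (n := Nat.card V) (x := (c : G ⧸ V))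
        (by
          rw [hi]
          exact ((hcop.coprime_dvd_left (orderOf_dvd_natCard _)).pow_right i).symm)
      have h2 : (((c ^ Nat.card V) ^ b : G) : G ⧸ V) = (c : G ⧸ V) := by
        rw [QuotientGroup.mk_pow, QuotientGroup.mk_pow, hb]
      have h3 : cj c = cj ((c ^ Nat.card V) ^ b) := by
        show σ (c : G ⧸ V) = σ (((c ^ Nat.card V) ^ b : G) : G ⧸ V)
        rw [h2]
      rw [h3]
      refine Additive.toMul.injective (Subtype.ext ?_)
      rw [hcj, (hcomm'.pow_left b).eq, mul_inv_cancel_right])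
    hgen (g : G ⧸ V) (Additive.ofMul ⟨v, hv⟩)
  have h4 : g * v * g⁻¹ = v := by
    have := congrArg (fun z : Additive V => ((z.toMul : V) : G)) key
    rw [show σ (g : G ⧸ V) = cj g from rfl, hcj] at this
    exact this
  calc g * v = g * v * g⁻¹ * g := by group
    _ = v * g := by rw [h4]

theorem isNilpotent_of_solvable_step (h : Hyp φ F H)
    (hfpf : ∀ h' ∈ H, h' ≠ 1 → ∀ f ∈ F, h' * f = f * h' → f = 1)
    (hsol : Group.IsSolvable G)
    (hsub : ∀ K : Subgroup G, IsInv φ K → K ≠ ⊤ → Group.IsNilpotent K)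
    (hquot : ∀ (p : ℕ) (V : Subgroup G) [V.Normal], p.Prime → IsInv φ V → V ≠ ⊥ →
      IsPGroup p V → IsMulCommutative V → (∀ x ∈ V, x ^ p = 1) → Group.IsNilpotent (G ⧸ V)) :
    Group.IsNilpotent G := by
  rcases subsingleton_or_nontrivial G with hs | hnt
  · infer_instance
  by_contra hnot
  haveI := hsol
  obtain ⟨p, V, hp, hVn, hVi, hVne, -, hVp, hVc, hVe⟩ :=
    exists_elementary φ (K := (⊤ : Subgroup G)) (fun _ _ _ => mem_top _) inferInstance top_ne_bot
  haveI := Fact.mk hp
  haveI := hVn
  haveI hQnil : Group.IsNilpotent (G ⧸ V) := hquot p V hp hVi hVne hVp hVc hVe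
  have hno : ∀ N : Subgroup G, N.Normal → IsInv φ N → N ⊓ V = ⊥ → N = ⊥ := by
    intro N hN hNi hNV
    by_contra hne
    haveI := hN
    obtain ⟨r, W, hr, hWn, hWi, hWne, hWN, hWp, hWc, hWe⟩ :=
      exists_elementary φ hNi inferInstance hne
    haveI := hWn
    exact hnot (isNilpotent_of_two W V (hquot r W hr hWi hWne hWp hWc hWe) hQnil
      (le_bot_iff.1 (hNV ▸ inf_le_inf_right V hWN)))
  have hpgroup : ∀ M : Subgroup G, M.Normal → IsInv φ M → V ≤ M → M ≠ ⊤ → IsPGroup p M := by
    intro M hM hMi hVM hMtop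
    haveI := hM
    haveI := hsub M hMi hMtop
    refine IsPGroup.of_card (n := (Nat.card M).primeFactorsList.length) ?_
    refine Nat.eq_prime_pow_of_unique_prime_dvd Nat.card_pos.ne' fun {q} hq hdvd => ?_
    by_contra hqp
    haveI := Fact.mk hq
    obtain ⟨S⟩ : Nonempty (Sylow q M) := inferInstance
    haveI : (S : Subgroup M).Normal :=
      S.normal_of_normalizerCondition Group.normalizerCondition_of_isNilpotent
    haveI := S.characteristic_of_normal ‹_›
    have hSV : (S : Subgroup M).map M.subtype ⊓ V = ⊥ :=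
      (IsPGroup.disjoint_of_ne q p hqp _ _ (S.isPGroup'.map M.subtype) hVp).eq_bot
    have := hno _ inferInstance (isInv_map φ hMi _ (isInv_of_characteristic _ _)) hSV
    rw [map_eq_bot_iff_of_injective _ M.subtype_injective] at this
    exact S.ne_bot_of_dvd_card hdvd this
  have hnp : ¬ IsPGroup p G := fun hG => hnot hG.isNilpotent
  obtain ⟨q, hq, hqp, hqdvd⟩ : ∃ q, q.Prime ∧ q ≠ p ∧ q ∣ Nat.card (G ⧸ V) := by
    by_contra hall
    push Not at hall
    apply hnp
    refine IsPGroup.of_card (n := (Nat.card G).primeFactorsList.length) ?_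
    refine Nat.eq_prime_pow_of_unique_prime_dvd Nat.card_pos.ne' fun {q} hq hdvd => ?_
    rw [Subgroup.card_eq_card_quotient_mul_card_subgroup V] at hdvd
    rcases hq.dvd_mul.1 hdvd with h1 | h1
    · by_contra hqp
      exact hall q hq hqp h1
    · obtain ⟨k, hk⟩ := IsPGroup.iff_card.1 hVp
      rw [hk] at h1
      exact (Nat.prime_dvd_prime_iff_eq hq hp).1 (hq.dvd_of_dvd_pow h1)
  haveI := Fact.mk hq
  obtain ⟨S⟩ : Nonempty (Sylow q (G ⧸ V)) := inferInstance
  haveI : (S : Subgroup (G ⧸ V)).Normal :=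
    S.normal_of_normalizerCondition Group.normalizerCondition_of_isNilpotent
  haveI := S.characteristic_of_normal ‹_›
  have hSinv : IsInv φ ((S : Subgroup (G ⧸ V)).comap (QuotientGroup.mk' V)) :=
    isInv_comap_mk φ hVi (isInv_of_characteristic _ _)
  have hle : ∀ Z : Subgroup (G ⧸ V), V ≤ Z.comap (QuotientGroup.mk' V) := fun Z x hx => by
    rw [mem_comap, QuotientGroup.mk'_apply, (QuotientGroup.eq_one_iff x).2 hx]
    exact one_mem _
  have hsurj : Function.Surjective (QuotientGroup.mk' V) := QuotientGroup.mk'_surjective V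
  have hStop : (S : Subgroup (G ⧸ V)) = ⊤ := by
    by_contra hne
    have h1 := hpgroup _ inferInstance hSinv (hle _) fun e => hne (by
      rw [← map_comap_eq_self_of_surjective hsurj (S : Subgroup (G ⧸ V)), e,
        map_top_of_surjective _ hsurj])
    have h2 : IsPGroup p (S : Subgroup (G ⧸ V)) := by
      rw [← map_comap_eq_self_of_surjective hsurj (S : Subgroup (G ⧸ V))]
      exact h1.map _
    exact S.ne_bot_of_dvd_card hqdvd
      (disjoint_self.1 (IsPGroup.disjoint_of_ne q p hqp _ _ S.isPGroup' h2))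
  have hQq : IsPGroup q (G ⧸ V) := by
    have := S.isPGroup'
    rw [hStop] at this
    exact this.of_equiv Subgroup.topEquiv
  have hQc : IsMulCommutative (G ⧸ V) := by
    haveI : Nontrivial (G ⧸ V) := Finite.one_lt_card_iff_nontrivial.1
      (lt_of_lt_of_le hq.one_lt (Nat.le_of_dvd Nat.card_pos hqdvd))
    have hlt := Group.IsSolvable.commutator_lt_top_of_nontrivial (G ⧸ V)
    have h1 := hpgroup _ inferInstance
      (isInv_comap_mk φ hVi (isInv_of_characteristic _ (commutator (G ⧸ V)))) (hle _) fun e =>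
        hlt.ne (by
          rw [← map_comap_eq_self_of_surjective hsurj (commutator (G ⧸ V)), e,
            map_top_of_surjective _ hsurj])
    have h2 : IsPGroup p (commutator (G ⧸ V)) := by
      rw [← map_comap_eq_self_of_surjective hsurj (commutator (G ⧸ V))]
      exact h1.map _
    have h3 : commutator (G ⧸ V) = ⊥ := disjoint_self.1
      (IsPGroup.disjoint_of_ne p q hqp.symm _ _ h2 (hQq.to_subgroup _))
    exact IsMulCommutative.of_comm fun a b => commutatorElement_eq_one_iff_mul_comm.1
      (mem_bot.1 (h3 ▸ commutator_mem_commutator (mem_top a) (mem_top b)))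
  exact hnot (Subgroup.isNilpotent_of_ker_le_center (QuotientGroup.mk' V) (by
    rw [QuotientGroup.ker_mk']
    exact centralizes_of_abelian_quotient h hfpf hqp.symm hVi hVp hVc hVe hQq hQc))

theorem isNilpotent_aux (hfpf : ∀ h' ∈ H, h' ≠ 1 → ∀ f ∈ F, h' * f = f * h' → f = 1) (n : ℕ) :
    ∀ (G : Type u) [Group G] [Finite G], Nat.card G = n → ∀ φ : A →* MulAut G, Hyp φ F H →
      Group.IsNilpotent G := by
  induction n using Nat.strongRecOn with | ind n ih => ?_
  intro G _ _ hn φ h
  subst hn
  have hsub : ∀ K : Subgroup G, IsInv φ K → K ≠ ⊤ → Group.IsNilpotent K := fun K hK hne =>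
    ih _ (lt_of_le_of_ne (Subgroup.card_le_card_group K)
      fun e => hne (eq_top_of_card_eq K e)) K rfl (restr φ K hK) (h.restrict hK)
  have hquot : ∀ (p : ℕ) (V : Subgroup G) [V.Normal], p.Prime → IsInv φ V → V ≠ ⊥ →
      IsPGroup p V → IsMulCommutative V → (∀ x ∈ V, x ^ p = 1) → Group.IsNilpotent (G ⧸ V) := by
    intro p V _ hp hV hne hVp hVc hVe
    haveI := Fact.mk hp
    refine ih _ ?_ (G ⧸ V) rfl (quot φ V hV) (h.quotient hfpf hV hVp hVc hVe)
    rw [Subgroup.card_eq_card_quotient_mul_card_subgroup V]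
    exact lt_mul_of_one_lt_right Nat.card_pos ((Subgroup.one_lt_card_iff_ne_bot V).2 hne)
  by_cases hsol : Group.IsSolvable G
  · exact isNilpotent_of_solvable_step h hfpf hsol hsub hquot
  exfalso
  have hsimple : ∀ K : Subgroup G, K.Normal → IsInv φ K → K = ⊥ ∨ K = ⊤ := by
    intro K hK hKi
    by_contra hne
    push Not at hne
    haveI := hK
    haveI := hsub K hKi hne.2
    obtain ⟨r, W, hr, hWn, hWi, hWne, hWK, hWp, hWc, hWe⟩ :=
      exists_elementary φ hKi inferInstance hne.1
    haveI := hWn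
    haveI := Fact.mk hr
    haveI := hquot r W hr hWi hWne hWp hWc hWe
    haveI := hWp.isNilpotent
    exact hsol (isSolvable_of_normal W inferInstance inferInstance)
  have hpsolv : ∀ p : ℕ, p.Prime → IsPGroup p G → False := fun p hp hG =>
    haveI := Fact.mk hp
    haveI := hG.isNilpotent
    hsol inferInstance
  -- an invariant Sylow subgroup for an odd prime divisor gives a normal complement
  have hfinish : ∀ (p : ℕ) [Fact p.Prime], p ≠ 2 → p ∣ Nat.card G → ∀ P : Sylow p G,
      IsInv φ (P : Subgroup G) → False := by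
    intro p _ hp2 hpG P hP
    set Z := Cfsg.centerThompsonOf p (P : Subgroup G) with hZdef
    have hZne : Z ≠ ⊥ :=
      SolvCrit.centerThompson_ne_bot P.isPGroup' (P.ne_bot_of_dvd_card hpG)
    have hPmap : ∀ a : A, (P : Subgroup G).map (φ a).toMonoidHom = (P : Subgroup G) := fun a =>
      le_antisymm (by rintro _ ⟨x, hx, rfl⟩; exact hP a x hx) fun x hx =>
        ⟨φ a⁻¹ x, hP a⁻¹ x hx, by
          show φ a (φ a⁻¹ x) = x
          rw [apply_apply, mul_inv_cancel, one_apply']⟩
    have hZinv : IsInv φ Z := by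
      intro a x hx
      have h1 := SolvCrit.map_centerThompson (φ a).toMonoidHom (φ a).injective p (P : Subgroup G)
      rw [hPmap a] at h1
      rw [hZdef, ← h1]
      exact mem_map_of_mem (φ a).toMonoidHom hx
    have hNtop : normalizer (Z : Set G) ≠ ⊤ := by
      intro e
      haveI : Z.Normal := normalizer_eq_top_iff.1 e
      refine hpsolv p Fact.out ?_
      have hZp : IsPGroup p Z := P.isPGroup'.to_le (SolvCrit.centerThompson_le p _)
      rw [(hsimple Z ‹_› hZinv).resolve_left hZne] at hZp
      exact hZp.of_equiv Subgroup.topEquiv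
    haveI := hsub _ (isInv_normalizer φ hZinv) hNtop
    obtain ⟨P', K, hK, hKc⟩ := Transfer.GlaubermanThompson.glauberman_thompson hp2 P
      Transfer.hasNormalPComplement_of_isNilpotent
    haveI := hK
    have hKcop : (Nat.card K).Coprime p := by
      rw [Nat.coprime_comm, (Fact.out : p.Prime).coprime_iff_not_dvd]
      have h1 : K.index = Nat.card (P' : Subgroup G) := hKc.symm.index_eq_card
      intro hd
      refine P'.not_dvd_index ?_
      rwa [hKc.index_eq_card]
    rcases hsimple (Cfsg.pPrimeCore p G) inferInstance (isInv_of_characteristic φ _) with h1 | h1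
    · have hK1 : K = ⊥ := le_bot_iff.1 (h1 ▸ PLocal.le_pPrimeCore hKcop)
      refine hpsolv p Fact.out ?_
      have hc := hKc.card_mul_card
      rw [hK1, card_bot, one_mul] at hc
      obtain ⟨k, hk⟩ := IsPGroup.iff_card.1 P'.isPGroup'
      exact IsPGroup.of_card (hc ▸ hk)
    · have := PLocal.coprime_card_pPrimeCore p G
      rw [h1, card_top, Nat.coprime_comm, (Fact.out : p.Prime).coprime_iff_not_dvd] at this
      exact this hpG
  by_cases hcase : ∃ s : ℕ, ∃ _ : Fact s.Prime, s ≠ 2 ∧ s ∣ Nat.card G ∧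
      ∃ S : Sylow s F, ∃ a ∈ (S : Subgroup F).map F.subtype, ∃ g : G, φ a g ≠ g
  · -- a prime dividing both orders
    obtain ⟨s, _, hs2, hsG, S, a, ha, g, hga⟩ := hcase
    haveI := map_sylow_normal F S
    set B := (S : Subgroup F).map F.subtype with hB
    have hDi := fixedBy_isInv φ B
    have hDtop : fixedBy φ B ≠ ⊤ := fun e => hga ((e ▸ mem_top g : g ∈ fixedBy φ B) a ha)
    haveI := hsub _ hDi hDtop
    obtain ⟨x, hx1, ⟨k, hk⟩, hx⟩ := exists_fixed_of_pGroup φ (S.isPGroup'.map F.subtype) hsG
    have hsD : s ∣ Nat.card (fixedBy φ B) := by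
      refine dvd_trans ?_ (orderOf_dvd_natCard (⟨x, hx⟩ : fixedBy φ B))
      rw [← orderOf_coe, hk]
      refine dvd_pow_self s ?_
      rintro rfl
      rw [pow_zero, orderOf_eq_one_iff] at hk
      exact hx1 hk
    obtain ⟨T⟩ : Nonempty (Sylow s (fixedBy φ B)) := inferInstance
    haveI : (T : Subgroup (fixedBy φ B)).Normal :=
      T.normal_of_normalizerCondition Group.normalizerCondition_of_isNilpotent
    haveI := T.characteristic_of_normal ‹_›
    let U0 := (T : Subgroup (fixedBy φ B)).map (fixedBy φ B).subtype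
    have hU0 : IsInv φ U0 := isInv_map φ hDi _ (isInv_of_characteristic _ _)
    obtain ⟨U, ⟨hUi, hUp, hU0U⟩, hUmax⟩ := WellFounded.has_min
      (wellFounded_gt : WellFounded ((· > ·) : Subgroup G → Subgroup G → Prop))
      {U : Subgroup G | IsInv φ U ∧ IsPGroup s U ∧ U0 ≤ U}
      ⟨U0, hU0, T.isPGroup'.map _, le_rfl⟩
    have hUne : U ≠ ⊥ := fun e => T.ne_bot_of_dvd_card hsD
      ((map_eq_bot_iff_of_injective _ (fixedBy φ B).subtype_injective).1 (le_bot_iff.1 (e ▸ hU0U)))
    have hUtop : normalizer (U : Set G) ≠ ⊤ := by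
      intro e
      haveI : U.Normal := normalizer_eq_top_iff.1 e
      refine hpsolv s Fact.out ?_
      rw [(hsimple U ‹_› hUi).resolve_left hUne] at hUp
      exact hUp.of_equiv Subgroup.topEquiv
    have hNi := isInv_normalizer φ hUi
    haveI := hsub _ hNi hUtop
    obtain ⟨R, hUR⟩ := hUp.exists_le_sylow
    obtain ⟨W⟩ : Nonempty (Sylow s (normalizer (U : Set G))) := inferInstance
    haveI : (W : Subgroup (normalizer (U : Set G))).Normal :=
      W.normal_of_normalizerCondition Group.normalizerCondition_of_isNilpotent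
    haveI := W.characteristic_of_normal ‹_›
    set U1 := (W : Subgroup (normalizer (U : Set G))).map (normalizer (U : Set G)).subtype with hU1
    have hall : ∀ X : Subgroup G, IsPGroup s X → X ≤ normalizer (U : Set G) → X ≤ U1 := by
      intro X hX hXN
      obtain ⟨W', hW'⟩ := (hX.comap_subtype (K := normalizer (U : Set G))).exists_le_sylow
      haveI := W.unique_of_normal ‹_›
      rw [Subsingleton.elim W' W] at hW'
      calc X = (X.subgroupOf _).map (normalizer (U : Set G)).subtype :=
            (map_subgroupOf_eq_of_le hXN).symm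
        _ ≤ U1 := map_mono hW'
    have hUU1 : U ≤ U1 := hall U hUp le_normalizer
    have hU1eq : U1 = U := by
      by_contra hne
      exact hUmax U1 ⟨isInv_map φ hNi _ (isInv_of_characteristic _ _), W.isPGroup'.map _,
        hU0U.trans hUU1⟩ (lt_of_le_of_ne hUU1 (Ne.symm hne))
    have hRU : (R : Subgroup G) ≤ U := by
      by_contra hnle
      haveI := R.isPGroup'.isNilpotent
      have hlt : U.subgroupOf (R : Subgroup G) < ⊤ :=
        lt_top_iff_ne_top.2 fun e => hnle (subgroupOf_eq_top.1 e)
      refine (Group.normalizerCondition_of_isNilpotent (G := (R : Subgroup G)) _ hlt).not_ge ?_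
      intro y hy
      rw [mem_subgroupOf, ← hU1eq]
      refine hall _ (R.isPGroup'.to_le (inf_le_left : (R : Subgroup G) ⊓ normalizer (U : Set G) ≤ _))
        inf_le_right ⟨y.2, ?_⟩
      refine mem_normalizer_iff.2 fun z => ?_
      constructor
      · intro hz
        exact (mem_normalizer_iff.1 hy ⟨z, hUR hz⟩).1 hz
      · intro hz
        have hzR : z ∈ (R : Subgroup G) := by
          have := mul_mem (mul_mem (inv_mem y.2) (hUR hz)) y.2
          simpa [mul_assoc] using this
        exact (mem_normalizer_iff.1 hy ⟨z, hzR⟩).2 hz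
    exact hfinish s hs2 hsG R (le_antisymm hRU hUR ▸ hUi)
  -- otherwise the odd part of `F` acts coprimely
  push Not at hcase
  set L := primePart 2 F with hL
  set A' := L.map φ with hA'
  haveI : Group.IsSolvable L :=
    Group.isSolvable_of_isSolvable_injective (Subgroup.inclusion_injective (primePart_le 2 F))
  haveI : Group.IsSolvable A' :=
    Group.isSolvable_of_surjective (f := φ.subgroupMap L) (MonoidHom.subgroupMap_surjective φ L)
  have hcop : (Nat.card A').Coprime (Nat.card G) := by
    refine Nat.coprime_of_dvd fun s hs hsA hsG => ?_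
    haveI := Fact.mk hs
    have hsL : s ∣ Nat.card L := hsA.trans (card_map_dvd L φ)
    have hs2 : s ≠ 2 := fun e => by
      have hc := coprime_card_primePart 2 F
      rw [← hL, Nat.coprime_comm, Nat.prime_two.coprime_iff_not_dvd] at hc
      exact hc (e ▸ hsL)
    obtain ⟨S⟩ : Nonempty (Sylow s F) := inferInstance
    set B := (S : Subgroup F).map F.subtype with hB
    have hBL : B ≤ L := map_sylow_le_primePart hs2 F S
    have hBker : B.subgroupOf L ≤ (φ.comp L.subtype).ker := fun x hx => by
      rw [MonoidHom.mem_ker]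
      exact MulEquiv.ext fun g => hcase s inferInstance hs2 hsG S x hx g
    have h1 : Nat.card A' = (φ.comp L.subtype).ker.index := by
      rw [Subgroup.index_ker, MonoidHom.range_comp, range_subtype]
    have h2 : s ∣ (B.subgroupOf L).index := by
      rw [h1] at hsA
      exact hsA.trans (index_dvd_of_le hBker)
    have h3 : (B.subgroupOf L).index ∣ (B.subgroupOf F).index := by
      show B.relIndex L ∣ B.relIndex F
      exact Dvd.intro _ (relIndex_mul_relIndex B L F hBL (primePart_le 2 F))
    refine S.not_dvd_index ?_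
    have h4 : B.subgroupOf F = (S : Subgroup F) :=
      comap_map_eq_self_of_injective F.subtype_injective _
    rw [← h4]
    exact h2.trans h3
  let D := fixedBy φ L
  have hDi : IsInv φ D := fixedBy_isInv φ L
  obtain ⟨P2⟩ : Nonempty (Sylow 2 F) := inferInstance
  set B2 := (P2 : Subgroup F).map F.subtype with hB2
  have hfix2 : ∀ x : G, (∀ l ∈ L, φ l x = x) → (∀ b ∈ B2, φ b x = x) → x = 1 := by
    intro x hxL hxB
    refine h.fpf x fun f hf => ?_
    rw [← primePart_sup_sylow 2 F P2] at hf
    have hle : L ⊔ B2 ≤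
        { carrier := {a | φ a x = x}
          one_mem' := one_apply' φ _
          mul_mem' := fun {a b} (ha : φ a x = x) (hb : φ b x = x) =>
            show φ (a * b) x = x by rw [← apply_apply, hb, ha]
          inv_mem' := fun {a} (ha : φ a x = x) => show φ a⁻¹ x = x by
            conv_lhs => rw [← ha]
            rw [apply_apply, inv_mul_cancel, one_apply'] } := sup_le hxL hxB
    exact hle hf
  have hDodd : ¬ 2 ∣ Nat.card D := by
    intro h2
    obtain ⟨x, hx1, -, hx⟩ := exists_fixed_of_pGroup (restr φ D hDi)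
      (P2.isPGroup'.map F.subtype) h2
    exact hx1 (Subtype.ext (hfix2 x x.2 fun b hb => congrArg Subtype.val (hx b hb)))
  obtain ⟨p, hp, hp2, hpG⟩ : ∃ p, p.Prime ∧ p ≠ 2 ∧ p ∣ Nat.card G := by
    by_contra hall
    push Not at hall
    refine hpsolv 2 Nat.prime_two (IsPGroup.of_card (n := (Nat.card G).primeFactorsList.length) ?_)
    refine Nat.eq_prime_pow_of_unique_prime_dvd Nat.card_pos.ne' fun {q} hq hdvd => ?_
    by_contra hq2
    exact hall q hq hq2 hdvd
  haveI := Fact.mk hp
  obtain ⟨P0, hP0'⟩ := Coprime.exists_invariant_sylow_hom A'.subtype hcop (Or.inl ‹_›) p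
  have hP0 : ∀ l ∈ L, ∀ x ∈ (P0 : Subgroup G), φ l x ∈ (P0 : Subgroup G) := fun l hl x hx =>
    hP0' ⟨φ l, mem_map_of_mem φ hl⟩ x hx
  -- Sylow subgroups normalised by `L`
  let X : Set (Sylow p G) := {P | ∀ l ∈ L, ∀ x ∈ (P : Subgroup G), φ l x ∈ (P : Subgroup G)}
  letI : MulDistribMulAction A G := MulDistribMulAction.compHom G φ
  have hmem : ∀ (a : A) (P : Sylow p G) (x : G),
      x ∈ ((a • P : Sylow p G) : Subgroup G) ↔ φ a⁻¹ x ∈ (P : Subgroup G) := fun a P x =>
    Subgroup.mem_pointwise_smul_iff_inv_smul_mem (a := a) (S := (P : Subgroup G))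
  have hXinv : ∀ a : A, ∀ P ∈ X, a • P ∈ X := by
    intro a P hP l hl x hx
    rw [hmem] at hx ⊢
    have hl' : a⁻¹ * l * a ∈ L := by simpa using (primePart_normal 2 F).conj_mem l hl a⁻¹
    have h1 := hP _ hl' _ hx
    rw [apply_apply, show a⁻¹ * l * a * a⁻¹ = a⁻¹ * l by group, ← apply_apply] at h1
    exact h1
  have htrans : ∀ P ∈ X, ∀ P' ∈ X, ∃ d ∈ D, d • P = P' := by
    intro P hP P' hP'
    obtain ⟨g, hg⟩ := MulAction.exists_smul_eq G P P'
    have hNinv : ∀ a : A', ∀ x ∈ normalizer ((P : Subgroup G) : Set G),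
        A'.subtype a x ∈ normalizer ((P : Subgroup G) : Set G) := by
      rintro ⟨_, l, hl, rfl⟩ x hx
      have hPi : IsInv (φ.comp L.subtype) (P : Subgroup G) := fun l x hx => hP l l.2 x hx
      exact isInv_normalizer (φ.comp L.subtype) hPi ⟨l, hl⟩ x hx
    obtain ⟨c, hc, hcN⟩ := Coprime.exists_fixed_mem_coset_hom A'.subtype
      (N := normalizer ((P : Subgroup G) : Set G)) hNinv
      (hcop.coprime_dvd_right (Subgroup.card_subgroup_dvd_card _)) (Or.inl ‹_›) (k := g)
      (by
        rintro ⟨_, l, hl, rfl⟩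
        refine Sylow.smul_eq_iff_mem_normalizer.1 ?_
        rw [mul_smul, inv_smul_eq_iff, hg]
        show φ l g • P = P'
        have hlP : ∀ Q ∈ X, ∀ y, y ∈ (Q : Subgroup G) ↔ φ l⁻¹ y ∈ (Q : Subgroup G) :=
          fun Q hQ y => ⟨hQ _ (L.inv_mem hl) y, fun hy => by
            have := hQ l hl _ hy
            rwa [apply_apply, mul_inv_cancel, one_apply'] at this⟩
        refine Sylow.ext (SetLike.ext fun y => ?_)
        rw [← hg]
        simp only [Sylow.coe_subgroup_smul, Subgroup.mem_pointwise_smul_iff_inv_smul_mem,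
          MulAut.smul_def, ← map_inv MulAut.conj, MulAut.conj_apply]
        rw [hlP P hP]
        have e : φ l⁻¹ ((φ l g)⁻¹ * y * (φ l g)⁻¹⁻¹) = g⁻¹ * φ l⁻¹ y * g⁻¹⁻¹ := by
          rw [map_mul (φ l⁻¹), map_mul (φ l⁻¹), map_inv (φ l⁻¹), map_inv (φ l⁻¹), map_inv (φ l⁻¹),
            apply_apply, inv_mul_cancel, one_apply']
        rw [e]
        have h2 := hlP P' hP' y
        rw [← hg] at h2
        simp only [Sylow.coe_subgroup_smul, Subgroup.mem_pointwise_smul_iff_inv_smul_mem,
          MulAut.smul_def, ← map_inv MulAut.conj, MulAut.conj_apply] at h2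
        exact h2.symm)
    refine ⟨c, fun l hl => hc ⟨φ l, mem_map_of_mem φ hl⟩, ?_⟩
    calc c • P = g • (g⁻¹ * c) • P := by rw [← mul_smul, mul_inv_cancel_left]
      _ = P' := by rw [Sylow.smul_eq_iff_mem_normalizer.2 hcN, hg]
  have hXorbit : X = MulAction.orbit D P0 := by
    ext P
    constructor
    · intro hP
      obtain ⟨d, hd, hdP⟩ := htrans P0 hP0 P hP
      exact ⟨⟨d, hd⟩, hdP⟩
    · rintro ⟨⟨d, hd⟩, rfl⟩ l hl x hx
      change x ∈ ((d • P0 : Sylow p G) : Subgroup G) at hx
      show φ l x ∈ ((d • P0 : Sylow p G) : Subgroup G)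
      simp only [Sylow.coe_subgroup_smul, Subgroup.mem_pointwise_smul_iff_inv_smul_mem,
        MulAut.smul_def, ← map_inv MulAut.conj, MulAut.conj_apply] at hx ⊢
      have h1 := hP0 l hl _ hx
      rwa [map_mul, map_mul, map_inv, map_inv, map_inv, hd l hl] at h1
  haveI := Fact.mk Nat.prime_two
  have hXodd : ¬ 2 ∣ Nat.card X := fun h2 => hDodd (h2.trans (by
    rw [hXorbit, Nat.card_coe_set_eq, ← MulAction.index_stabilizer]
    exact Subgroup.index_dvd_card _))
  letI : MulAction B2 X :=
    { smul := fun b P => ⟨(b : A) • (P : Sylow p G), hXinv b P P.2⟩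
      one_smul := fun P => Subtype.ext (one_smul A (P : Sylow p G))
      mul_smul := fun b c P => Subtype.ext (mul_smul (b : A) (c : A) (P : Sylow p G)) }
  obtain ⟨P, hPfix⟩ := (P2.isPGroup'.map F.subtype).nonempty_fixed_point_of_prime_not_dvd_card X hXodd
  have hPuniq : ∀ P' ∈ X, (∀ b ∈ B2, b • P' = P') → (P : Sylow p G) = P' := by
    intro P' hP' hfix'
    obtain ⟨d, hd, hdP⟩ := htrans P P.2 P' hP'
    let N := D ⊓ normalizer (((P : Sylow p G) : Subgroup G) : Set G)
    have hPB : ∀ b ∈ B2, b • (P : Sylow p G) = P := fun b hb =>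
      congrArg Subtype.val (hPfix ⟨b, hb⟩)
    have hconj : ∀ (a : A) (x : G) (Q : Sylow p G), a • x • Q = (φ a x) • (a • Q) := by
      intro a x Q
      refine Sylow.ext (SetLike.ext fun y => ?_)
      simp only [Sylow.coe_subgroup_smul, Subgroup.mem_pointwise_smul_iff_inv_smul_mem,
        MulAut.smul_def, ← map_inv MulAut.conj, MulAut.conj_apply, hmem]
      rw [map_mul (φ a⁻¹), map_mul (φ a⁻¹), map_inv (φ a⁻¹), map_inv (φ a⁻¹), map_inv (φ a⁻¹),
        apply_apply,
        inv_mul_cancel, one_apply']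
    obtain ⟨c, hc, hcN⟩ := Coprime.exists_fixed_mem_coset_hom (φ.comp B2.subtype) (N := N)
      (fun b x hx => ⟨hDi b x hx.1, Sylow.smul_eq_iff_mem_normalizer.1 (by
        show φ b x • (P : Sylow p G) = P
        conv_lhs => rw [← hPB b b.2, ← hconj, Sylow.smul_eq_iff_mem_normalizer.2 hx.2]
        exact hPB b b.2)⟩)
      (by
        obtain ⟨k, hk⟩ := IsPGroup.iff_card.1 (P2.isPGroup'.map F.subtype)
        rw [hk]
        exact ((Nat.prime_two.coprime_iff_not_dvd).2 fun h2 => hDodd
          (h2.trans (card_dvd_of_le inf_le_left))).pow_left k)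
      (Or.inl (haveI := (P2.isPGroup'.map F.subtype).isNilpotent; inferInstance)) (k := d)
      (fun b => ⟨D.mul_mem (D.inv_mem hd) (hDi b d hd), Sylow.smul_eq_iff_mem_normalizer.1 (by
        show (d⁻¹ * φ b d) • (P : Sylow p G) = P
        conv_lhs => rw [mul_smul, ← hPB b b.2, ← hconj, hdP, hfix' b b.2, ← hdP, inv_smul_smul]
        )⟩)
    have hcD : c ∈ D := by
      have := mul_mem hd hcN.1
      rwa [mul_inv_cancel_left] at this
    have hc1 : c = 1 := hfix2 c hcD fun b hb => hc ⟨b, hb⟩
    rw [hc1, mul_one] at hcN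
    have h7 : d⁻¹ ∈ normalizer (((P : Sylow p G) : Subgroup G) : Set G) := hcN.2
    rw [← hdP, Sylow.smul_eq_iff_mem_normalizer.2 (inv_mem_iff.1 h7)]
  refine hfinish p hp2 hpG P fun a x hx => ?_
  have h5 := hPuniq (a • (P : Sylow p G)) (hXinv a P P.2) fun b hb => by
    haveI := map_sylow_normal F P2
    have hb' : a⁻¹ * b * a ∈ B2 := by
      have h6 := (map_sylow_normal F P2).conj_mem b hb a⁻¹
      rwa [inv_inv] at h6
    calc b • a • (P : Sylow p G) = a • (a⁻¹ * b * a) • (P : Sylow p G) := by
          rw [← mul_smul, ← mul_smul]; congr 1; group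
      _ = a • (P : Sylow p G) := by
          rw [show (a⁻¹ * b * a) • (P : Sylow p G) = P from congrArg Subtype.val (hPfix ⟨_, hb'⟩)]
  rw [h5, hmem, apply_apply, inv_mul_cancel, one_apply']
  exact hx

/-- If `F` fixes nothing, is acted on fixed-point-freely by `H` and `C_G(H)` is nilpotent, then `G`
is nilpotent. -/
theorem isNilpotent_of_fixedBy {G : Type u} [Group G] [Finite G] (φ : A →* MulAut G)
    (hfpf : ∀ h' ∈ H, h' ≠ 1 → ∀ f ∈ F, h' * f = f * h' → f = 1) (h : Hyp φ F H) :
    Group.IsNilpotent G :=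
  isNilpotent_aux hfpf _ G rfl φ h

end CfsgLib.FrobKernelFixed
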